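/-
The rational points of a field automorphism inside the parabolic subgroups of a Chevalley group:
a coset of a parabolic subgroup fixed by the automorphism has a rational representative, and an
overgroup of the rational points meets each parabolic subgroup, and the normaliser of each rational
`p`-subgroup, in rational points once it does so for `U`.
-/
import Cfsg.Agent.Lib.Chev.BorelTits
import Cfsg.Agent.Lib.Chev.FieldFixed
import Cfsg.Agent.Lib.Chev.ParabolicFitting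
import Cfsg.Agent.Lib.Chev.Longest
import Cfsg.Agent.Lib.Chev.CentralizerFinite

set_option autoImplicit false
set_option linter.dupNamespace false
set_option linter.unusedSectionVars false
set_option linter.unusedSimpArgs false
set_option maxHeartbeats 1000000

namespace CfsgLib.Chev

open Cfsg.Lie Matrix

section

variable {D : ChevalleyDatum} {K : Type*} [Field K] (σ : K ≃+* K)

/-- The field automorphism on matrices. -/
abbrev fr : GL D.Idx K →* GL D.Idx K := Matrix.GeneralLinearGroup.map σ.toRingHom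

theorem fr_sub_one (g : GL D.Idx K) (a b : D.Idx) :
    ((fr σ g : Matrix D.Idx D.Idx K) - 1) a b = σ (((g : Matrix D.Idx D.Idx K) - 1) a b) := by
  show (σ ((g : Matrix D.Idx D.Idx K) a b)) - (1 : Matrix D.Idx D.Idx K) a b = _
  by_cases e : a = b
  · subst e; simp
  · simp [Matrix.one_apply_ne e]

theorem fr_apply (g : GL D.Idx K) (a b : D.Idx) :
    (fr σ g : Matrix D.Idx D.Idx K) a b = σ ((g : Matrix D.Idx D.Idx K) a b) := rfl

theorem fr_mem_stabR (w : D.Idx → ℝ) {g : GL D.Idx K} (hg : g ∈ stabR w) : fr σ g ∈ stabR w := by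
  constructor
  · intro a b h
    rw [fr_apply] at h
    exact hg.1 a b (fun e => h (by rw [e, map_zero]))
  · intro a b h
    rw [← map_inv, fr_apply] at h
    exact hg.2 a b (fun e => h (by rw [e, map_zero]))

theorem fr_mem_radP (w : D.Idx → ℝ) {g : GL D.Idx K} (hg : g ∈ radP w) : fr σ g ∈ radP w := by
  constructor
  · intro a b h
    rw [fr_sub_one] at h
    exact hg.1 a b (fun e => h (by rw [e, map_zero]))
  · intro a b h
    rw [← map_inv, fr_sub_one] at h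
    exact hg.2 a b (fun e => h (by rw [e, map_zero]))

end

section raising

variable {I : Type*} [Fintype I] [DecidableEq I] {R : Type*} [CommRing R] (w : I → ℝ)

theorem RaisesP.mul_R {M N : Matrix I I R} (hM : RaisesP w M) (hN : RaisesR w 0 N) :
    RaisesP w (M * N) := by
  intro a b hab
  rw [Matrix.mul_apply] at hab
  obtain ⟨z, -, hz⟩ := Finset.exists_ne_zero_of_sum_ne_zero hab
  have h1 := hM a z (fun e => hz (by simp [e]))
  have h2 := hN z b (fun e => hz (by simp [e]))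
  linarith

theorem radP_conj {b r : (Matrix I I R)ˣ} (hb : b ∈ stabR w) (hr : r ∈ radP w) :
    b * r * b⁻¹ ∈ radP w := by
  have key : ∀ s : (Matrix I I R)ˣ, RaisesP w ((s : Matrix I I R) - 1) →
      RaisesP w (((b * s * b⁻¹ : (Matrix I I R)ˣ) : Matrix I I R) - 1) := by
    intro s hs
    have e := conj_sub_one b⁻¹ s
    rw [inv_inv] at e
    rw [e]
    exact (hb.1.mul_strict w hs).mul_R w hb.2
  refine ⟨key r hr.1, ?_⟩
  rw [show (b * r * b⁻¹)⁻¹ = b * r⁻¹ * b⁻¹ by group]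
  exact key r⁻¹ hr.2

theorem eq_one_of_stabR_radP {v : I → ℝ} (hv : ∀ a, v a = -w a) {g : (Matrix I I R)ˣ}
    (hs : g ∈ stabR w) (hr : g ∈ radP v) : g = 1 := by
  refine Units.ext (sub_eq_zero.1 (Matrix.ext fun a b => ?_))
  by_contra hne
  have u1 := hr.1 a b hne
  rw [hv, hv] at u1
  have hab : a ≠ b := by rintro rfl; exact lt_irrefl _ u1
  have u2 := hs.1 a b (by simpa [Matrix.sub_apply, Matrix.one_apply_ne hab] using hne)
  linarith

end raising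

namespace Chev

variable {D : ChevalleyDatum} (Φ : Chev D) {K : Type*} [Field K] (σ : K ≃+* K)

/-- The rational points. -/
def ratG : Subgroup (GL D.Idx K) :=
  D.group K ⊓ MonoidHom.eqLocus (fr σ) (MonoidHom.id (GL D.Idx K))

theorem mem_ratG {g : GL D.Idx K} : g ∈ ratG σ ↔ g ∈ D.group K ∧ fr σ g = g := Iff.rfl

theorem fr_xg (r : Fin D.nroots) (t : K) : fr σ (Φ.toAlg.xg r t) = Φ.toAlg.xg r (σ t) :=
  Φ.map_root_xg σ.toRingHom r t

include Φ in
theorem fr_mem_group {g : GL D.Idx K} (hg : g ∈ D.group K) : fr σ g ∈ D.group K :=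
  Φ.map_mem_group σ.toRingHom hg

theorem xg_mem_ratG {r : Fin D.nroots} {t : K} (ht : σ t = t) : Φ.toAlg.xg r t ∈ ratG σ :=
  ⟨Φ.toAlg.xg_mem_group r t, by show fr σ _ = _; rw [Φ.fr_xg, ht]; rfl⟩

theorem nw_mem_ratG (r : Fin D.nroots) : Φ.nw r (1 : Kˣ) ∈ ratG σ :=
  ⟨Φ.nw_mem_group _ _, by show fr σ _ = _; rw [fr, Φ.map_nw, map_one]; rfl⟩

/-- The subgroup generated by the rational root elements. -/
def ratE : Subgroup (GL D.Idx K) :=
  Subgroup.closure {g | ∃ (r : Fin D.nroots) (t : K), σ t = t ∧ g = Φ.toAlg.xg r t}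

theorem xg_mem_ratE {r : Fin D.nroots} {t : K} (ht : σ t = t) : Φ.toAlg.xg r t ∈ Φ.ratE σ :=
  Subgroup.subset_closure ⟨r, t, ht, rfl⟩

theorem ratE_le_ratG : Φ.ratE σ ≤ ratG σ := by
  rw [ratE, Subgroup.closure_le]
  rintro _ ⟨r, t, ht, rfl⟩
  exact Φ.xg_mem_ratG σ ht

theorem nw_mem_ratE (r : Fin D.nroots) {t : Kˣ} (ht : σ (t : K) = t) : Φ.nw r t ∈ Φ.ratE σ :=
  mul_mem (mul_mem (Φ.xg_mem_ratE σ ht) (Φ.xg_mem_ratE σ (by rw [map_neg, map_inv₀, ht])))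
    (Φ.xg_mem_ratE σ ht)

theorem nw_one_mem_ratE (r : Fin D.nroots) : Φ.nw r (1 : Kˣ) ∈ Φ.ratE σ :=
  Φ.nw_mem_ratE σ r (by simp)

theorem fixed_US_mem_ratE {S : Fin D.nroots → Prop} (hpos : ∀ r, S r → Φ.toTables.Pos r)
    (hcl : Φ.Closed S) {u : GL D.Idx K} (hu : u ∈ Φ.US K S) (hfix : fr σ u = u) :
    u ∈ Φ.ratE σ := by
  classical
  obtain ⟨t, rfl⟩ := (Φ.mem_US_iff hpos hcl).1 hu
  rw [fr, Φ.map_prodL] at hfix
  have h := Φ.prodL_injective (pairwise_rootList S) (fun r hr => hpos r (mem_rootList.1 hr)) hfix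
  refine Subgroup.list_prod_mem _ fun g hg => ?_
  obtain ⟨r, hr, rfl⟩ := List.mem_map.1 hg
  exact Φ.xg_mem_ratE σ (h r hr)

theorem fixed_U_mem_ratE {u : GL D.Idx K} (hu : u ∈ D.posUnipotent K) (hfix : fr σ u = u) :
    u ∈ Φ.ratE σ := by
  rw [Φ.posUnipotent_eq_US] at hu
  exact Φ.fixed_US_mem_ratE σ (fun _ h => h) Φ.closed_pos hu hfix

/-- A rational monomial element above a Weyl element. -/
theorem exists_rat_mono {π : Equiv.Perm (Fin D.nroots)} (hπ : π ∈ Φ.WL) :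
    ∃ n ∈ D.monomialSubgroup K, n ∈ Φ.ratE σ ∧ Φ.Mono n π := by
  induction hπ using Subgroup.closure_induction with
  | mem x hx =>
    obtain ⟨i, -, rfl⟩ := hx
    exact ⟨_, Φ.nw_mem_N _ _, Φ.nw_one_mem_ratE σ _, Φ.nw_one_mono i⟩
  | one => exact ⟨1, one_mem _, one_mem _, Mono.one Φ⟩
  | mul x y _ _ hx hy =>
    obtain ⟨g, hg, hgr, a⟩ := hx
    obtain ⟨h, hh, hhr, b⟩ := hy
    exact ⟨g * h, mul_mem hg hh, mul_mem hgr hhr, Mono.mul Φ a b⟩
  | inv x _ hx =>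
    obtain ⟨g, hg, hgr, a⟩ := hx
    exact ⟨g⁻¹, inv_mem hg, inv_mem hgr, Φ.mono_inv hg a⟩

theorem wt_negv (x : Fin D.rank → ℝ) (r : Fin D.nroots) :
    Φ.wt (fun j => -x j) r = -Φ.wt x r := by
  simp [wt, Finset.sum_neg_distrib]

theorem wtIdx_negv (x : Fin D.rank → ℝ) (a : D.Idx) :
    Φ.wtIdx (fun j => -x j) a = -Φ.wtIdx x a := by
  rcases a with i | s
  · simp [wtIdx]
  · simp [wtIdx, Φ.wt_negv]

theorem US_le_stabR {x : Fin D.rank → ℝ} {S : Fin D.nroots → Prop} (hS : ∀ r, S r → 0 ≤ Φ.wt x r) :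
    Φ.US K S ≤ stabR (Φ.wtIdx x) := by
  rw [US, Subgroup.closure_le]
  rintro _ ⟨r, t, hr, rfl⟩
  exact Φ.xg_mem_stabR (hS r hr) t

theorem US_le_radP {x : Fin D.rank → ℝ} {S : Fin D.nroots → Prop} (hS : ∀ r, S r → 0 < Φ.wt x r) :
    Φ.US K S ≤ radP (Φ.wtIdx x) := by
  rw [US, Subgroup.closure_le]
  rintro _ ⟨r, t, hr, rfl⟩
  refine ⟨Φ.raisesP_xg (hS r hr) t, ?_⟩
  rw [Φ.toAlg.xg_inv]
  exact Φ.raisesP_xg (hS r hr) (-t)

theorem conj_stab_mono {n : GL D.Idx K} (hn : n ∈ D.monomialSubgroup K)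
    {π : Equiv.Perm (Fin D.nroots)} (hπ : π ∈ Φ.WL) (hm : Φ.Mono n π) {x : Fin D.rank → ℝ}
    {g : GL D.Idx K} (hg : g ∈ stabR (Φ.wtIdx x)) : n⁻¹ * g * n ∈ stabR (Φ.wtIdx (Φ.act π x)) := by
  refine ⟨?_, ?_⟩
  · simp only [Units.val_mul]
    exact Φ.raisesR_mono hn hπ hm hg.1
  · rw [show (n⁻¹ * g * n)⁻¹ = n⁻¹ * g⁻¹ * n by group]
    simp only [Units.val_mul]
    exact Φ.raisesR_mono hn hπ hm hg.2

theorem mono_mem_stabR {n : GL D.Idx K} (hn : n ∈ D.monomialSubgroup K)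
    {π : Equiv.Perm (Fin D.nroots)} (hπ : π ∈ Φ.WL) (hm : Φ.Mono n π) {x : Fin D.rank → ℝ}
    (hx : Φ.act π x = x) : n ∈ stabR (Φ.wtIdx x) := by
  have hx' : Φ.act π⁻¹ x = x := by
    conv_lhs => rw [← hx, ← Φ.act_mul hπ, mul_inv_cancel, Φ.act_one]
  constructor
  · intro a b hab
    rw [Φ.mono_entry hπ hm x hab, hx, add_zero]
  · intro a b hab
    rw [Φ.mono_entry (inv_mem hπ) (Φ.mono_inv hn hm) x hab, hx', add_zero]

theorem mono_entry_ne {n : GL D.Idx K} {π : Equiv.Perm (Fin D.nroots)} (hm : Φ.Mono n π)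
    (s : Fin D.nroots) : (n : Matrix D.Idx D.Idx K) (Sum.inr (π s)) (Sum.inr s) ≠ 0 := by
  obtain ⟨c, hc, -, hv⟩ := hm.1 s
  have h := congrFun hv (Sum.inr (π s))
  rw [Matrix.mulVec_single_one, Matrix.col_apply, Pi.smul_apply, Pi.single_eq_same] at h
  rw [h]
  simpa using hc

theorem wt_of_stab_mono {n : GL D.Idx K} (hn : n ∈ D.monomialSubgroup K)
    {π : Equiv.Perm (Fin D.nroots)} (hm : Φ.Mono n π) {x : Fin D.rank → ℝ}
    (hs : n ∈ stabR (Φ.wtIdx x)) (r : Fin D.nroots) : Φ.wt x (π r) = Φ.wt x r := by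
  have h1 := hs.1 _ _ (Φ.mono_entry_ne hm r)
  have h2 := hs.2 _ _ (Φ.mono_entry_ne (Φ.mono_inv hn hm) (π r))
  rw [show π⁻¹ (π r) = r from π.symm_apply_apply r] at h2
  simp only [wtIdx, Sum.elim_inr, add_zero] at h1 h2
  linarith

include Φ in
/-- A fixed coset of the stabiliser of a dominant grading contains a rational element. -/
theorem exists_rat_coset {x : Fin D.rank → ℝ} (hx : ∀ i, 0 ≤ x i) {g : GL D.Idx K}
    (hg : g ∈ D.group K) (hfix : g⁻¹ * fr σ g ∈ stabR (Φ.wtIdx x)) :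
    ∃ m ∈ Φ.ratE σ, m⁻¹ * g ∈ stabR (Φ.wtIdx x) := by
  classical
  obtain ⟨b, hb, n, hn, π, hπ, hm, u, hu, rfl⟩ := Φ.exists_normal_form hg
  obtain ⟨v, hv, h, hh, rfl⟩ := Φ.mem_B_iff.1 hb
  obtain ⟨n0, hn0, hn0r, hm0⟩ := Φ.exists_rat_mono σ hπ
  have hd := Φ.inv_mul_mem_H hn0 hn hm0 hm
  set s := (n0⁻¹ * h * n0) * (n0⁻¹ * n) * u with hs
  have hss : s ∈ stabR (Φ.wtIdx x) := mul_mem
    (mul_mem (Φ.diag_mem_stabR _ (Φ.H_conj_mem' hn0 hh)) (Φ.diag_mem_stabR _ hd))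
    (Φ.borel_le_stabR hx (U_le_B (Φ.Uneg_le_U hu)))
  have e : v * h * n * u = v * n0 * s := by rw [hs]; group
  rw [e] at hfix ⊢
  rw [map_mul, map_mul, (Φ.ratE_le_ratG σ hn0r).2, MonoidHom.id_apply] at hfix
  set y := Φ.act π⁻¹ x with hy
  have hyx : Φ.act π y = x := by
    rw [hy, ← Φ.act_mul (inv_mem hπ), inv_mul_cancel, Φ.act_one]
  have hw : v⁻¹ * fr σ v ∈ stabR (Φ.wtIdx y) := by
    have h1 : n0⁻¹ * (v⁻¹ * fr σ v) * n0 ∈ stabR (Φ.wtIdx x) := by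
      rw [show n0⁻¹ * (v⁻¹ * fr σ v) * n0 =
        s * ((v * n0 * s)⁻¹ * (fr σ v * n0 * fr σ s)) * (fr σ s)⁻¹ by group]
      exact mul_mem (mul_mem hss hfix) (inv_mem (fr_mem_stabR σ _ hss))
    have := Φ.conj_stab_mono (inv_mem hn0) (inv_mem hπ) (Φ.mono_inv hn0 hm0) h1
    rwa [show n0⁻¹⁻¹ * (n0⁻¹ * (v⁻¹ * fr σ v) * n0) * n0⁻¹ = v⁻¹ * fr σ v by group, ← hy] at this
  rw [Φ.posUnipotent_eq_US, ← Φ.US_rootList] at hv
  obtain ⟨P, hP, M, hM, rfl⟩ := Φ.exists_splitList (A := fun r => Φ.wt y r < 0)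
    (pairwise_rootList _) (fun r hr => mem_rootList.mp hr)
    (fun a c ha hc hN => mem_rootList.mpr
      (Φ.closed_pos a c (mem_rootList.mp ha) (mem_rootList.mp hc) hN)) hv
  have hMs : M ∈ stabR (Φ.wtIdx y) := Φ.US_le_stabR (fun r hr => not_lt.1 hr.2) hM
  have hPr : P ∈ radP (Φ.wtIdx fun j => -y j) :=
    Φ.US_le_radP (fun r hr => by rw [Φ.wt_negv]; linarith [hr.2]) hP
  have hPfix : P⁻¹ * fr σ P = 1 := by
    refine eq_one_of_stabR_radP (Φ.wtIdx y) (fun a => Φ.wtIdx_negv y a) ?_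
      (mul_mem (inv_mem hPr) (fr_mem_radP σ _ hPr))
    rw [show P⁻¹ * fr σ P = M * ((P * M)⁻¹ * fr σ (P * M)) * (fr σ M)⁻¹ by rw [map_mul]; group]
    exact mul_mem (mul_mem hMs hw) (inv_mem (fr_mem_stabR σ _ hMs))
  have hPU : P ∈ D.posUnipotent K := by
    rw [Φ.posUnipotent_eq_US, ← Φ.US_rootList]
    exact Φ.US_mono (fun r hr => hr.1) hP
  refine ⟨P * n0, mul_mem (Φ.fixed_U_mem_ratE σ hPU (inv_mul_eq_one.1 hPfix).symm) hn0r, ?_⟩
  rw [show (P * n0)⁻¹ * (P * M * n0 * s) = n0⁻¹ * M * n0 * s by group]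
  refine mul_mem ?_ hss
  have := Φ.conj_stab_mono hn0 hπ hm0 hMs
  rwa [hyx] at this

/-- The centraliser of the rational root elements of a radical lies in `U`. -/
theorem mem_U_of_commute_out (hok : spanCert D = true) {x : Fin D.rank → ℝ} (hx : ∀ i, 0 ≤ x i)
    {i0 : Fin D.rank} (hi0 : x i0 ≠ 0) {z : GL D.Idx K} (hzG : z ∈ D.group K)
    (hzs : z ∈ stabR (Φ.wtIdx x))
    (hz : ∀ r, 0 < Φ.wt x r → Commute z (Φ.toAlg.xg r (1 : K))) : z ∈ D.posUnipotent K := by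
  classical
  obtain ⟨b, hb, n, hn, π, hπ, hm, u, hu, rfl⟩ := Φ.exists_normal_form hzG
  have hbs := Φ.borel_le_stabR hx hb
  have hus := Φ.borel_le_stabR hx (U_le_B (Φ.Uneg_le_U hu))
  have hns : n ∈ stabR (Φ.wtIdx x) := by
    rw [show n = b⁻¹ * (b * n * u) * u⁻¹ by group]
    exact mul_mem (mul_mem (inv_mem hbs) hzs) (inv_mem hus)
  have hwt := Φ.wt_of_stab_mono hn hm hns
  have hpos : ∀ r, 0 < Φ.wt x r → Φ.toTables.Pos r := fun r hr => by
    by_contra hn'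
    linarith [Φ.wt_nonpos hx hn']
  -- no root of positive weight has its code lowered
  have hcode : ∀ r, 0 < Φ.wt x r → Φ.toTables.code r ≤ Φ.toTables.code (π r) := by
    intro r hr
    by_contra hlt
    push Not at hlt
    set v := n * u * n⁻¹ with hv
    have hvx : v ∈ stabR (Φ.wtIdx x) := mul_mem (mul_mem hns hus) (inv_mem hns)
    obtain ⟨c, hc, hxc, -⟩ := hm.1 r
    have heq : b⁻¹ * Φ.toAlg.xg r 1 * b = v * Φ.toAlg.xg (π r) c * v⁻¹ := by
      have h1 := (hz r hr).eq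
      have h2 : n * Φ.toAlg.xg r 1 * n⁻¹ = Φ.toAlg.xg (π r) c := by rw [hxc, mul_one]
      rw [← h2, hv, show n * u * n⁻¹ * (n * Φ.toAlg.xg r 1 * n⁻¹) * (n * u * n⁻¹)⁻¹ =
        b⁻¹ * (b * n * u * Φ.toAlg.xg r 1) * (b * n * u)⁻¹ * b by group, h1]
      group
    have hvc : v ∈ stabR (fun a => -(Φ.toSys.codeIdx a : ℝ)) := by
      have hV : v ∈ D.negUnipotent K := Φ.Uneg_conj_mem_V hm hu
      rw [Φ.negUnipotent_eq_US] at hV
      refine (Subgroup.closure_le (stabR _)).2 ?_ hV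
      rintro _ ⟨q, t, hq, rfl⟩
      have key : ∀ t : K, RaisesR (fun a => -(Φ.toSys.codeIdx a : ℝ)) 0
          ((Φ.toAlg.xg q t : GL D.Idx K) : Matrix D.Idx D.Idx K) := by
        intro t
        refine RaisesR.of_sub_one _ le_rfl fun a a' haa => ?_
        rw [Φ.toAlg.xg_val] at haa
        obtain ⟨k, -, hE⟩ := Φ.X_sub_one_entry haa
        have hce : (Φ.toSys.codeIdx a : ℝ) = k * Φ.toTables.code q + Φ.toSys.codeIdx a' := by
          exact_mod_cast Φ.toSys.code_E k q a a' hE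
        have hq' : (Φ.toTables.code q : ℝ) ≤ 0 := by
          have : Φ.toTables.code q ≤ 0 := not_lt.1 fun h => hq ((Φ.code_pos_iff q).1 h)
          exact_mod_cast this
        have := mul_nonpos_of_nonneg_of_nonpos (Nat.cast_nonneg (α := ℝ) k) hq'
        linarith
      exact ⟨key t, by rw [Φ.toAlg.xg_inv]; exact key (-t)⟩
    have hrp := hpos r hr
    have hrp' : Φ.toTables.Pos (π r) := hpos _ (by rw [hwt]; exact hr)
    obtain ⟨i, hi⟩ := Φ.exists_C_ne_zero (F := K) r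
    -- the entry on the left
    have hL : ((b⁻¹ * Φ.toAlg.xg r 1 * b : GL D.Idx K) : Matrix D.Idx D.Idx K)
        (Sum.inl i) (Sum.inr r.rev) ≠ 0 := by
      obtain ⟨w, hw, d, hd, e⟩ := Φ.mem_B_iff.1 (inv_mem hb)
      obtain ⟨t, rfl⟩ := Φ.exists_torus_of_mem_H hd
      set a : K := (Φ.toSys.chi t r : K) with ha
      have e1 : b⁻¹ * Φ.toAlg.xg r 1 * b = w * Φ.toAlg.xg r a * w⁻¹ := by
        calc b⁻¹ * Φ.toAlg.xg r 1 * b = b⁻¹ * Φ.toAlg.xg r 1 * (b⁻¹)⁻¹ := by group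
          _ = w * (Φ.toAlg.torus t * Φ.toAlg.xg r 1) * (Φ.toAlg.torus t)⁻¹ * w⁻¹ := by rw [e]; group
          _ = _ := by rw [Φ.toAlg.torus_xg, mul_one, ← ha]; group
      have hcr := Φ.code_pos hrp
      rw [Φ.posUnipotent_eq_US] at hw
      have hxr := Φ.xg_mem_raise (F := K) hrp a
      have hW : w * Φ.toAlg.xg r a * w⁻¹ * (Φ.toAlg.xg r a)⁻¹ ∈
          raiseSubgroup (fun y => 1 * Φ.toSys.codeIdx y) (Φ.toTables.code r + 1) (by omega) := by
        obtain ⟨p1, p2⟩ := commutator_mem_raiseSubgroup (fun y => 1 * Φ.toSys.codeIdx y) zero_le_one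
          hcr.le (Φ.US_pos_le_raise hw) hxr
        exact ⟨p1.mono _ (by omega), p2.mono _ (by omega)⟩
      have hW' := Φ.conj_mem_raise (by omega)
        (Φ.B_le_raise (U_le_B (inv_mem (Φ.xg_mem_U hrp a)))) hW
      rw [inv_inv] at hW'
      have e2 : w * Φ.toAlg.xg r a * w⁻¹ = Φ.toAlg.xg r a *
          ((Φ.toAlg.xg r a)⁻¹ * (w * Φ.toAlg.xg r a * w⁻¹ * (Φ.toAlg.xg r a)⁻¹) * Φ.toAlg.xg r a) := by
        group
      rw [e1, e2, Φ.C_mul_of_prod a (by omega) hW' hrp (by omega) i]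
      exact mul_ne_zero (by rw [ha]; exact Units.ne_zero _) hi
    -- the entry on the right
    apply hL
    rw [heq]
    have hsub : ((v * Φ.toAlg.xg (π r) c * v⁻¹ : GL D.Idx K) : Matrix D.Idx D.Idx K)
        (Sum.inl i) (Sum.inr r.rev) = ((v : Matrix D.Idx D.Idx K) *
          ((Φ.toAlg.xg (π r) c : GL D.Idx K) - 1 : Matrix D.Idx D.Idx K) *
          (↑v⁻¹ : Matrix D.Idx D.Idx K)) (Sum.inl i) (Sum.inr r.rev) := by
      have e := conj_sub_one v⁻¹ (Φ.toAlg.xg (π r) c)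
      rw [inv_inv] at e
      rw [← e, Matrix.sub_apply, Matrix.one_apply_ne (by simp), sub_zero]
    rw [hsub, Φ.toAlg.xg_val, Sys.X, Finset.sum_range_succ, Finset.sum_range_succ,
      Finset.sum_range_succ, Finset.sum_range_one, pow_zero, one_smul, Φ.toSys.E_zero]
    set E := fun k => Φ.toSys.E K k (π r)
    have e3 : (1 + c ^ 1 • E 1 + c ^ 2 • E 2 + c ^ 3 • E 3 - 1 : Matrix D.Idx D.Idx K) =
        c ^ 1 • E 1 + (c ^ 2 • E 2 + c ^ 3 • E 3) := by abel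
    rw [e3, mul_add, add_mul, Matrix.add_apply]
    have hsm : ∀ (w : D.Idx → ℝ) (d : ℝ) (k : ℕ) (t : K),
        (∀ a a', E k a a' ≠ 0 → w a' + d ≤ w a) → RaisesR w d (t • E k) := fun w d k t hk a a' h =>
      hk a a' fun e => h (by simp [Matrix.smul_apply, e])
    have h1 : RaisesR (fun a => -(Φ.toSys.codeIdx a : ℝ)) (-(Φ.toTables.code (π r) : ℝ))
        (c ^ 1 • E 1) := hsm _ _ _ _ fun a a' h => by
      have hce : (Φ.toSys.codeIdx a : ℝ) = Φ.toTables.code (π r) + Φ.toSys.codeIdx a' := by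
        have := Φ.toSys.code_E 1 (π r) a a' h
        push_cast at this
        rw [one_mul] at this
        exact_mod_cast this
      linarith
    have h23 : RaisesR (Φ.wtIdx x) (2 * Φ.wt x r) (c ^ 2 • E 2 + c ^ 3 • E 3) := by
      refine RaisesR.add _ (hsm _ _ _ _ fun a a' h => ?_) (hsm _ _ _ _ fun a a' h => ?_)
      all_goals
        rw [Φ.wt_E x _ (π r) a a' h, hwt]
        push_cast
        linarith
    have z1 : ((v : Matrix D.Idx D.Idx K) * (c ^ 1 • E 1) * (↑v⁻¹ : Matrix D.Idx D.Idx K))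
        (Sum.inl i) (Sum.inr r.rev) = 0 := by
      by_contra hne
      have := ((hvc.1.mul _ h1).mul _ hvc.2) _ _ hne
      simp only [Sys.codeIdx, Sum.elim_inl, Sum.elim_inr, Φ.toSys.code_neg] at this
      push_cast at this
      have : (Φ.toTables.code (π r) : ℝ) < Φ.toTables.code r := by exact_mod_cast hlt
      linarith
    have z2 : ((v : Matrix D.Idx D.Idx K) * (c ^ 2 • E 2 + c ^ 3 • E 3) *
        (↑v⁻¹ : Matrix D.Idx D.Idx K)) (Sum.inl i) (Sum.inr r.rev) = 0 := by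
      by_contra hne
      have := ((hvx.1.mul _ h23).mul _ hvx.2) _ _ hne
      simp only [wtIdx, Sum.elim_inl, Sum.elim_inr, Φ.wt_rev] at this
      linarith
    rw [z1, z2, add_zero]
  -- so the Weyl element fixes them all
  have hfix : ∀ r, 0 < Φ.wt x r → π r = r := by
    set P := Finset.univ.filter fun r => 0 < Φ.wt x r with hP
    have hsum : ∑ r ∈ P, Φ.toTables.code (π r) = ∑ r ∈ P, Φ.toTables.code r := by
      refine Finset.sum_nbij' (fun r => π r) (fun r => π⁻¹ r) ?_ ?_ ?_ ?_ ?_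
      · intro r hr
        simp only [hP, Finset.mem_coe, Finset.mem_filter, Finset.mem_univ, true_and] at hr ⊢
        rw [hwt]; exact hr
      · intro r hr
        simp only [hP, Finset.mem_coe, Finset.mem_filter, Finset.mem_univ, true_and] at hr ⊢
        have := hwt (π⁻¹ r)
        rw [show π (π⁻¹ r) = r from π.apply_symm_apply r] at this
        rw [← this]; exact hr
      · intro r _; exact π.symm_apply_apply r
      · intro r _; exact π.apply_symm_apply r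
      · intro r _; rfl
    have hle : ∀ r ∈ P, Φ.toTables.code r ≤ Φ.toTables.code (π r) := fun r hr =>
      hcode r (by simpa [hP] using hr)
    intro r hr
    have := (Finset.sum_eq_sum_iff_of_le hle).1 hsum.symm r (by simp [hP, hr])
    exact (Φ.code_strictMono.injective this).symm
  have hwtpos : ∀ (r : Fin D.nroots), Φ.toTables.Pos r → 0 < Φ.V r i0 → 0 < Φ.wt x r :=
    fun r hr hV => Finset.sum_pos' (fun k _ => mul_nonneg (by exact_mod_cast Φ.V_nonneg r hr k) (hx k))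
      ⟨i0, Finset.mem_univ _, mul_pos (by exact_mod_cast hV) (lt_of_le_of_ne (hx i0) (Ne.symm hi0))⟩
  have hnode : ∀ j, x j = 0 → ∃ r, 0 < Φ.wt x r ∧ 0 < Φ.wt x (Φ.S r (Φ.p j)) ∧ Φ.N r (Φ.p j) ≠ 0 := by
    intro j hj
    obtain ⟨r, hrp, hV, hN⟩ := Φ.exists_raisable hok (i := i0) (j := j) (fun e => hi0 (e ▸ hj))
    refine ⟨r, hwtpos r hrp hV, ?_, hN⟩
    have : Φ.wt x (Φ.S r (Φ.p j)) = Φ.wt x r + Φ.wt x (Φ.p j) := by
      simp only [wt, Φ.V_add r _ hN, Int.cast_add, add_mul, Finset.sum_add_distrib]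
    rw [this, Φ.wt_p, hj, add_zero]
    exact hwtpos r hrp hV
  have hπ1 : π = 1 := by
    have hp : ∀ j, π (Φ.p j) = Φ.p j := by
      intro j
      by_cases hj : x j = 0
      · obtain ⟨r, h1, h2, hN⟩ := hnode j hj
        refine Φ.toSys.V_inj fun k => ?_
        have e : Φ.V (π (Φ.S r (Φ.p j))) k = Φ.V (π r) k + Φ.V (π (Φ.p j)) k := by
          simp only [Φ.V_map hπ (Φ.S r (Φ.p j)), Φ.V_map hπ r, Φ.V_add r _ hN, add_mul,
            Finset.sum_add_distrib]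
          simp [Φ.V_p]
        rw [hfix _ h1, hfix _ h2, Φ.V_add r _ hN] at e
        omega
      · exact hfix _ (by rw [Φ.wt_p]; exact lt_of_le_of_ne (hx j) (Ne.symm hj))
    refine inv_eq_one.1 (Φ.eq_one_of_pos_inv (inv_mem hπ) fun j => ?_)
    rw [inv_inv, hp]
    exact Φ.p_pos j
  subst hπ1
  have hu1 : u = 1 := by
    have : Φ.Uneg K (1 : Equiv.Perm (Fin D.nroots)) ≤ ⊥ := by
      rw [Uneg, US, Subgroup.closure_le]
      rintro _ ⟨r, t, ⟨p1, p2⟩, rfl⟩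
      exact absurd p1 p2
    exact Subgroup.mem_bot.1 (this hu)
  subst hu1
  have hnH : n ∈ D.diagonalSubgroup K := by
    have := Φ.inv_mul_mem_H (one_mem (D.monomialSubgroup K)) hn (Mono.one Φ) hm
    simpa using this
  obtain ⟨v, hv, h, hh, e⟩ := Φ.mem_B_iff.1 (mul_mem hb (H_le_B hnH))
  obtain ⟨c, rfl⟩ := Φ.exists_torus_of_mem_H hh
  rw [mul_one] at hz ⊢
  rw [e] at hz ⊢
  have hc : ∀ r, 0 < Φ.wt x r → Φ.toSys.chi c r = 1 := fun r hr =>
    Φ.chi_eq_one_of_commute hv c (hpos r hr) (hz r hr)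
  have hc1 : c = 1 := by
    funext j
    rw [← Φ.toSys.chi_simple c j]
    by_cases hj : x j = 0
    · obtain ⟨r, h1, h2, hN⟩ := hnode j hj
      have := Φ.toSys.chi_add c hN
      rw [hc r h1, hc _ h2, one_mul] at this
      exact this.symm
    · exact hc _ (by rw [Φ.wt_p]; exact lt_of_le_of_ne (hx j) (Ne.symm hj))
  rw [hc1, map_one, mul_one]
  exact hv

variable {H : Subgroup (GL D.Idx K)}

/-- Conjugation by a rational diagonal element multiplies a parameter by a rational constant. -/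
theorem diag_conj {d : GL D.Idx K} (hd : d ∈ D.diagonalSubgroup K) (hdf : fr σ d = d)
    (r : Fin D.nroots) :
    ∃ c : K, c ≠ 0 ∧ σ c = c ∧ ∀ t, d * Φ.toAlg.xg r t * d⁻¹ = Φ.toAlg.xg r (c * t) := by
  obtain ⟨s, rfl⟩ := Φ.exists_torus_of_mem_H hd
  have h : ∀ t, Φ.toAlg.torus s * Φ.toAlg.xg r t * (Φ.toAlg.torus s)⁻¹ =
      Φ.toAlg.xg r ((Φ.toSys.chi s r : K) * t) := fun t => by
    rw [Φ.toAlg.torus_xg, mul_inv_cancel_right]
  refine ⟨(Φ.toSys.chi s r : K), Units.ne_zero _, ?_, h⟩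
  have h1 := congrArg (fr σ) (h 1)
  rw [map_mul, map_mul, map_inv, hdf, Φ.fr_xg, Φ.fr_xg, map_one, h, mul_one] at h1
  exact (Φ.toAlg.xg_injective r h1).symm

theorem diag_conj_ratE {d : GL D.Idx K} (hd : d ∈ D.diagonalSubgroup K) (hdf : fr σ d = d)
    {e : GL D.Idx K} (he : e ∈ Φ.ratE σ) : d * e * d⁻¹ ∈ Φ.ratE σ := by
  induction he using Subgroup.closure_induction with
  | mem y hy =>
    obtain ⟨r, t, ht, rfl⟩ := hy
    obtain ⟨c, -, hc, h⟩ := Φ.diag_conj σ hd hdf r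
    rw [h]
    exact Φ.xg_mem_ratE σ (by rw [map_mul, hc, ht])
  | one => simp
  | mul a b _ _ ha hb =>
    rw [show d * (a * b) * d⁻¹ = (d * a * d⁻¹) * (d * b * d⁻¹) by group]
    exact mul_mem ha hb
  | inv a _ ha =>
    rw [show d * a⁻¹ * d⁻¹ = (d * a * d⁻¹)⁻¹ by group]
    exact inv_mem ha

include Φ in
/-- A rational point is a product of rational root elements and a rational diagonal element. -/
theorem ratG_decomp {g : GL D.Idx K} (hg : g ∈ ratG σ) :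
    ∃ v ∈ Φ.ratE σ, v ∈ D.posUnipotent K ∧ ∃ d ∈ D.diagonalSubgroup K, fr σ d = d ∧
      ∃ w ∈ Φ.ratE σ, g = v * d * w := by
  obtain ⟨hgG, hfix⟩ := hg
  replace hfix : fr σ g = g := hfix
  obtain ⟨b, hb, n, hn, π, hπ, hm, u, hu, rfl⟩ := Φ.exists_normal_form hgG
  obtain ⟨n0, hn0, hn0E, hm0⟩ := Φ.exists_rat_mono σ hπ
  have hH := Φ.inv_mul_mem_H hn0 hn hm0 hm
  set b' := b * (n0 * (n0⁻¹ * n) * n0⁻¹) with hb'def
  have hb' : b' ∈ D.borelSubgroup K := mul_mem hb (H_le_B (Φ.H_conj_mem hn0 hH))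
  have e : b * n * u = b' * n0 * u := by rw [hb'def]; group
  rw [e] at hfix ⊢
  obtain ⟨v, hv, d, hd, ev⟩ := Φ.mem_B_iff.1 hb'
  have hfv : fr σ v ∈ D.posUnipotent K := by
    rw [Φ.posUnipotent_eq_US] at hv ⊢
    exact Φ.map_mem_US _ hv
  have hfd : fr σ d ∈ D.diagonalSubgroup K := Φ.map_mem_diagonal _ hd
  rw [map_mul, map_mul, (Φ.ratE_le_ratG σ hn0E).2, MonoidHom.id_apply] at hfix
  have hsb : fr σ b' ∈ D.borelSubgroup K := by
    rw [ev, map_mul]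
    exact mul_mem (U_le_B hfv) (H_le_B hfd)
  obtain ⟨hbf, huf⟩ := Φ.normal_form_unique hm0 hsb hb' (Φ.map_mem_US _ hu) hu hfix
  rw [ev, map_mul] at hbf
  have h2 : v⁻¹ * fr σ v = d * (fr σ d)⁻¹ := by
    rw [inv_mul_eq_iff_eq_mul, ← mul_assoc, eq_mul_inv_iff_mul_eq]
    exact hbf
  have h3 := Φ.eq_one_of_mem_U_of_mem_N (mul_mem (inv_mem hv) hfv)
    (h2 ▸ H_le_N (mul_mem hd (inv_mem hfd)))
  have hvf : fr σ v = v := (inv_mul_eq_one.1 h3).symm
  rw [hvf] at hbf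
  exact ⟨v, Φ.fixed_U_mem_ratE σ hv hvf, hv, d, hd, mul_left_cancel hbf, n0 * u,
    mul_mem hn0E (Φ.fixed_U_mem_ratE σ (Φ.Uneg_le_U hu) huf), by rw [ev]; group⟩

include Φ in
/-- The rational points of order a power of `p` are products of rational root elements. -/
theorem mem_ratE_of_pPower (p : ℕ) [Fact p.Prime] [CharP K p] (hfin : {x : K | σ x = x}.Finite)
    {g : GL D.Idx K} (hg : g ∈ ratG σ) {j : ℕ} (hj : g ^ p ^ j = 1) : g ∈ Φ.ratE σ := by
  classical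
  set F := RingHom.eqLocusField σ.toRingHom (RingHom.id K)
  haveI : Finite F := hfin.to_subtype
  haveI : Fintype F := Fintype.ofFinite F
  haveI : CharP F p := inferInstance
  set m := Fintype.card F - 1 with hm
  obtain ⟨v, hv, -, d, hd, hdf, w, hw, e⟩ := Φ.ratG_decomp σ hg
  -- the diagonal part has exponent dividing `m`
  have hdiag : (d : Matrix D.Idx D.Idx K) = Matrix.diagonal fun a => (d : Matrix D.Idx D.Idx K) a a := by
    ext a b
    by_cases hab : a = b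
    · subst hab; simp
    · rw [Matrix.diagonal_apply_ne _ hab]; exact Φ.diag_apply hd hab
  have hdm : d ^ m = 1 := by
    refine Units.ext ?_
    rw [Units.val_pow_eq_pow_val, hdiag, Matrix.diagonal_pow, Units.val_one, ← Matrix.diagonal_one]
    congr 1
    funext a
    have hne : (d : Matrix D.Idx D.Idx K) a a ≠ 0 := fun h0 => by
      have h1 := congrFun (congrFun d.mul_inv a) a
      rw [Matrix.mul_apply, Matrix.one_apply_eq, Finset.sum_eq_zero (fun j _ => by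
        by_cases hj : a = j
        · subst hj; rw [h0, zero_mul]
        · rw [Φ.diag_apply hd hj, zero_mul])] at h1
      exact zero_ne_one h1
    have hmemF : (d : Matrix D.Idx D.Idx K) a a ∈ F := by
      show σ _ = _
      conv_rhs => rw [← hdf]
      rfl
    have h1 := FiniteField.pow_card_sub_one_eq_one (⟨_, hmemF⟩ : F)
      (fun h0 => hne (congrArg Subtype.val h0))
    exact congrArg Subtype.val h1
  have hpow : ∀ k : ℕ, g ^ k * (d ^ k)⁻¹ ∈ Φ.ratE σ := by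
    intro k
    induction k with
    | zero => simp
    | succ k ih =>
      have h1 : g * d⁻¹ ∈ Φ.ratE σ := by
        rw [show g * d⁻¹ = v * (d * w * d⁻¹) by rw [e]; group]
        exact mul_mem hv (Φ.diag_conj_ratE σ hd hdf hw)
      have h2 : d ^ k * (g * d⁻¹) * (d ^ k)⁻¹ ∈ Φ.ratE σ :=
        Φ.diag_conj_ratE σ (pow_mem hd k) (by rw [map_pow, hdf]) h1
      rw [show g ^ (k + 1) * (d ^ (k + 1))⁻¹ =
        g ^ k * (d ^ k)⁻¹ * (d ^ k * (g * d⁻¹) * (d ^ k)⁻¹) by rw [pow_succ, pow_succ]; group]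
      exact mul_mem ih h2
  have hgm : g ^ m ∈ Φ.ratE σ := by
    have := hpow m
    rwa [hdm, _root_.inv_one, mul_one] at this
  have hp : p.Prime := Fact.out
  obtain ⟨n, -, hn⟩ := FiniteField.card F p
  have hco : m.Coprime (orderOf g) := by
    refine Nat.Coprime.coprime_dvd_right (orderOf_dvd_of_pow_eq_one hj) (Nat.Coprime.pow_right j ?_)
    rw [Nat.coprime_comm, hp.coprime_iff_not_dvd]
    intro hd'
    have h1 : p ∣ Fintype.card F := by rw [hn]; exact dvd_pow_self p n.ne_zero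
    have := Fintype.one_lt_card (α := F)
    have h2 := Nat.dvd_sub h1 hd'
    rw [hm, show Fintype.card F - (Fintype.card F - 1) = 1 by omega] at h2
    exact hp.one_lt.ne' (Nat.dvd_one.1 h2)
  obtain ⟨k, hk⟩ := exists_pow_eq_self_of_coprime hco
  rw [← hk]
  exact pow_mem hgm k

include Φ in
/-- A rational `p`-subgroup is conjugate into `U`. -/
theorem exists_conj_le_U_rat (p : ℕ) [Fact p.Prime] [CharP K p] (hfin : {x : K | σ x = x}.Finite)
    {R : Subgroup (GL D.Idx K)} (hRr : R ≤ ratG σ) (hR : IsPGroup p ↥R) :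
    ∃ g ∈ D.group K, ∀ r ∈ R, g⁻¹ * r * g ∈ D.posUnipotent K := by
  classical
  set F := RingHom.eqLocusField σ.toRingHom (RingHom.id K)
  haveI : Finite F := hfin.to_subtype
  set f := Matrix.GeneralLinearGroup.map (n := D.Idx) F.subtype with hf
  have hle : Φ.ratE σ ≤ (D.group F).map f := by
    rw [ratE, Subgroup.closure_le]
    rintro _ ⟨r, t, ht, rfl⟩
    exact ⟨Φ.toAlg.xg r (⟨t, ht⟩ : F), Φ.toAlg.xg_mem_group r _, Φ.map_root_xg F.subtype r _⟩
  have hfinj : Function.Injective f := fun a b h => Units.ext (Matrix.ext fun i k =>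
    Subtype.ext (congrArg (fun g : GL D.Idx K => (g : Matrix D.Idx D.Idx K) i k) h))
  have hRE : ∀ r ∈ R, r ∈ Φ.ratE σ := by
    intro r hr
    obtain ⟨j, hj⟩ := hR ⟨r, hr⟩
    exact Φ.mem_ratE_of_pPower σ p hfin (hRr hr) (congrArg Subtype.val hj)
  obtain ⟨g, hg, hgU⟩ := Φ.exists_conj_le_U (F := F) p (R := R.comap f ⊓ D.group F) inf_le_right
    ((hR.comap_of_injective f hfinj).to_le inf_le_left)
  refine ⟨f g, Φ.map_mem_group _ hg, fun r hr => ?_⟩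
  obtain ⟨s, hs, rfl⟩ := hle (hRE r hr)
  have h1 := hgU s ⟨hr, hs⟩
  rw [Φ.posUnipotent_eq_US] at h1 ⊢
  have h2 := Φ.map_mem_US F.subtype h1
  rwa [map_mul, map_mul, map_inv] at h2

/-- An element of `U` commuting with the rational root elements has no fundamental coordinate. -/
def CenFact (K : Type*) [Field K] : Prop :=
  ∀ w ∈ D.posUnipotent K, (∀ s, Φ.toTables.Pos s → Commute w (Φ.toAlg.xg s (1 : K))) →
    ∀ i, w ∈ Φ.US K (Φ.PosNe i)

include Φ in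
theorem commute_of_conj_rat {q x : GL D.Idx K} (h : q * x * q⁻¹ ∈ ratG σ) (hx : fr σ x = x) :
    Commute (q⁻¹ * fr σ q) x := by
  have h2 : fr σ (q * x * q⁻¹) = q * x * q⁻¹ := h.2
  rw [map_mul, map_mul, map_inv, hx] at h2
  show q⁻¹ * fr σ q * x = x * (q⁻¹ * fr σ q)
  calc q⁻¹ * fr σ q * x = q⁻¹ * (fr σ q * x * (fr σ q)⁻¹) * fr σ q := by group
    _ = _ := by rw [h2]; group

theorem xg_rev_conj_posNe {i : Fin D.rank} {v : GL D.Idx K} (hv : v ∈ Φ.US K (Φ.PosNe i)) :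
    Φ.toAlg.xg (Φ.p i).rev (-1) * v * (Φ.toAlg.xg (Φ.p i).rev (-1))⁻¹ ∈ Φ.US K (Φ.PosNe i) := by
  set n := Φ.nw (Φ.p i) (1 : Kˣ) with hn
  have hX : Φ.toAlg.xg (Φ.p i).rev (-1 : K) = n * Φ.toAlg.xg (Φ.p i) 1 * n⁻¹ := by
    rw [hn, Φ.nw_conj_xg, mul_inv_cancel_right, Φ.refl_p, (Φ.eta_p i).1]
    push_cast
    rw [neg_one_mul]
  have h1 : n⁻¹ * v * n ∈ Φ.US K (Φ.PosNe i) := by
    have h := Φ.mono_conj_US (Φ.mono_inv (Φ.nw_mem_N _ _) (Φ.nw_one_mono (F := K) i))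
      (T := Φ.PosNe i) (fun r hr => by rw [Φ.reflPerm_inv']; exact Φ.refl_pos hr.1 hr.2) hv
    rwa [inv_inv] at h
  have h2 := Φ.xg_p_conj_posNe i (-1) h1
  rw [Φ.toAlg.xg_neg, inv_inv] at h2
  have h3 := Φ.nw_conj_posNe i h2
  rw [hX]
  rw [show n * Φ.toAlg.xg (Φ.p i) 1 * n⁻¹ * v * (n * Φ.toAlg.xg (Φ.p i) 1 * n⁻¹)⁻¹ =
    n * (Φ.toAlg.xg (Φ.p i) 1 * (n⁻¹ * v * n) * (Φ.toAlg.xg (Φ.p i) 1)⁻¹) * n⁻¹ by group]
  exact h3

variable {σ} in
include Φ in
/-- An element `q d` of `H`, with `q` in `U` and `d` rational diagonal, is rational. -/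
theorem diag_unip' (hcen : Φ.CenFact K) (hrat : Φ.ratE σ ≤ H)
    (hU : ∀ u ∈ H, u ∈ D.posUnipotent K → u ∈ ratG σ) {q d : GL D.Idx K}
    (hq : q ∈ D.posUnipotent K) (hd : d ∈ D.diagonalSubgroup K) (hdf : fr σ d = d)
    (hqd : q * d ∈ H) : q⁻¹ * fr σ q = 1 := by
  set w := q⁻¹ * fr σ q with hw
  have hfU : ∀ x : GL D.Idx K, x ∈ D.posUnipotent K → fr σ x ∈ D.posUnipotent K := fun x hx => by
    rw [Φ.posUnipotent_eq_US] at hx ⊢
    exact Φ.map_mem_US _ hx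
  have hwU : w ∈ D.posUnipotent K := mul_mem (inv_mem hq) (hfU q hq)
  have hA : ∀ s, Φ.toTables.Pos s → ∀ t : K, σ t = t → Commute w (Φ.toAlg.xg s t) := by
    intro s hs t ht
    obtain ⟨c, hc0, hcf, hc⟩ := Φ.diag_conj σ hd hdf s
    refine Φ.commute_of_conj_rat σ (hU _ ?_ (mul_mem (mul_mem hq (Φ.xg_mem_U hs _)) (inv_mem hq)))
      (by rw [Φ.fr_xg, ht])
    have h1 := mul_mem (mul_mem hqd (hrat (Φ.xg_mem_ratE σ (r := s) (t := c⁻¹ * t)
      (by rw [map_mul, map_inv₀, hcf, ht])))) (inv_mem hqd)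
    rwa [show q * d * Φ.toAlg.xg s (c⁻¹ * t) * (q * d)⁻¹ =
      q * (d * Φ.toAlg.xg s (c⁻¹ * t) * d⁻¹) * q⁻¹ by group, hc, mul_inv_cancel_left₀ hc0] at h1
  have hne := hcen w hwU fun s hs => hA s hs 1 (map_one σ)
  have hB : ∀ i, Commute w (Φ.toAlg.xg (Φ.p i).rev (-1 : K)) := by
    intro i
    obtain ⟨v, hv, a, rfl⟩ := Φ.exists_split i hq
    set P := v⁻¹ * fr σ v with hP
    have hPne : P ∈ Φ.US K (Φ.PosNe i) := mul_mem (inv_mem hv) (Φ.map_mem_US _ hv)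
    set Q := (Φ.toAlg.xg (Φ.p i) a)⁻¹ * P * Φ.toAlg.xg (Φ.p i) a with hQ
    have hQne : Q ∈ Φ.US K (Φ.PosNe i) := Φ.xg_p_conj_posNe i a hPne
    have ha : σ a = a := by
      have e : w = Q * Φ.toAlg.xg (Φ.p i) (-a + σ a) := by
        rw [hQ, hP, hw, Φ.toAlg.xg_add, Φ.toAlg.xg_neg, ← Φ.fr_xg σ, map_mul]
        group
      have h1 : Φ.toAlg.xg (Φ.p i) (-a + σ a) ∈ Φ.US K (Φ.PosNe i) :=
        (Subgroup.mul_mem_cancel_left _ hQne).1 (e ▸ hne i)
      exact (eq_of_sub_eq_zero (by linear_combination Φ.xg_p_mem_posNe h1))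
    have hwv : P = w := by
      have hc := hA _ (Φ.p_pos i) a ha
      have e : w = (Φ.toAlg.xg (Φ.p i) a)⁻¹ * P * Φ.toAlg.xg (Φ.p i) a := by
        rw [hP, hw, map_mul, Φ.fr_xg, ha]
        group
      calc P = Φ.toAlg.xg (Φ.p i) a * w * (Φ.toAlg.xg (Φ.p i) a)⁻¹ := by rw [e]; group
        _ = w := by rw [← hc.eq, mul_inv_cancel_right]
    have hvd : v * d ∈ H := by
      obtain ⟨c, hc0, hcf, hc⟩ := Φ.diag_conj σ hd hdf (Φ.p i)
      rw [show v * d = v * Φ.toAlg.xg (Φ.p i) a * d * (Φ.toAlg.xg (Φ.p i) (c⁻¹ * a))⁻¹ by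
        rw [show Φ.toAlg.xg (Φ.p i) a = d * Φ.toAlg.xg (Φ.p i) (c⁻¹ * a) * d⁻¹ by
          rw [hc, mul_inv_cancel_left₀ hc0]]
        group]
      exact mul_mem hqd (inv_mem (hrat (Φ.xg_mem_ratE σ (by rw [map_mul, map_inv₀, hcf, ha]))))
    set X := Φ.toAlg.xg (Φ.p i).rev (-1 : K) with hXdef
    have hXr : X ∈ Φ.ratE σ := Φ.xg_mem_ratE σ (by rw [map_neg, map_one])
    have hE : v * X * v⁻¹ * X⁻¹ ∈ ratG σ := by
      refine hU _ (mul_mem ?_ (inv_mem (hrat hXr))) ?_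
      · obtain ⟨c, hc0, hcf, hc⟩ := Φ.diag_conj σ hd hdf (Φ.p i).rev
        have h1 := mul_mem (mul_mem hvd (hrat (Φ.xg_mem_ratE σ (r := (Φ.p i).rev) (t := c⁻¹ * (-1))
          (by rw [map_mul, map_inv₀, hcf, map_neg, map_one])))) (inv_mem hvd)
        rwa [show v * d * Φ.toAlg.xg (Φ.p i).rev (c⁻¹ * -1) * (v * d)⁻¹ =
          v * (d * Φ.toAlg.xg (Φ.p i).rev (c⁻¹ * -1) * d⁻¹) * v⁻¹ by group, hc,
          mul_inv_cancel_left₀ hc0] at h1
      · refine Φ.posNe_le_U (i := i) ?_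
        rw [show v * X * v⁻¹ * X⁻¹ = v * (X * v⁻¹ * X⁻¹) by group]
        exact mul_mem hv (Φ.xg_rev_conj_posNe (inv_mem hv))
    have hvX : v * X * v⁻¹ ∈ ratG σ := by
      have := mul_mem hE (Φ.ratE_le_ratG σ hXr)
      rwa [inv_mul_cancel_right] at this
    exact hwv ▸ Φ.commute_of_conj_rat σ hvX (Φ.ratE_le_ratG σ hXr).2
  have hmono : ∀ π ∈ Φ.W, ∃ n : GL D.Idx K, Commute w n ∧ n ∈ D.monomialSubgroup K ∧ Φ.Mono n π := by
    intro π hπ
    induction hπ using Subgroup.closure_induction with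
    | mem x hx =>
      obtain ⟨i, rfl⟩ := hx
      refine ⟨Φ.nw (Φ.p i) (1 : Kˣ), ?_, Φ.nw_mem_N _ _, Φ.nw_one_mono i⟩
      have h1 := hA _ (Φ.p_pos i) 1 (map_one σ)
      have h2 := hB i
      show Commute w (Φ.toAlg.xg (Φ.p i) ((1 : Kˣ) : K) *
        Φ.toAlg.xg (Φ.p i).rev (-((1 : Kˣ) : K)⁻¹) * Φ.toAlg.xg (Φ.p i) ((1 : Kˣ) : K))
      rw [Units.val_one, _root_.inv_one]
      exact (h1.mul_right h2).mul_right h1
    | one => exact ⟨1, Commute.one_right _, one_mem _, Mono.one Φ⟩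
    | mul x y _ _ hx hy =>
      obtain ⟨n, c, hn, hm⟩ := hx
      obtain ⟨n', c', hn', hm'⟩ := hy
      exact ⟨n * n', c.mul_right c', mul_mem hn hn', Mono.mul Φ hm hm'⟩
    | inv x _ hx =>
      obtain ⟨n, c, hn, hm⟩ := hx
      exact ⟨n⁻¹, c.inv_right, inv_mem hn, Φ.mono_inv hn hm⟩
  obtain ⟨π, hπ, hlong⟩ := Φ.exists_longest
  obtain ⟨n, hcn, -, hm⟩ := hmono π hπ
  have hV : w ∈ D.negUnipotent K := by
    rw [Φ.negUnipotent_eq_US]
    have h := Φ.mono_conj_US hm (T := fun r => ¬ Φ.toTables.Pos r)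
      (fun r (hr : Φ.toTables.Pos r) hp => (hlong r).1 hp hr)
      (show w ∈ Φ.US K Φ.toTables.Pos by rw [← Φ.posUnipotent_eq_US]; exact hwU)
    rwa [← hcn.eq, mul_inv_cancel_right] at h
  have := Subgroup.mem_inf.2 ⟨U_le_B hwU, hV⟩
  rwa [Φ.B_inf_V, Subgroup.mem_bot] at this

include Φ in
theorem diag_unip (hcen : Φ.CenFact K) (hrat : Φ.ratE σ ≤ H)
    (hU : ∀ u ∈ H, u ∈ D.posUnipotent K → u ∈ ratG σ) {q d : GL D.Idx K}
    (hq : q ∈ D.posUnipotent K) (hd : d ∈ D.diagonalSubgroup K) (hdf : fr σ d = d)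
    (hqd : q * d ∈ H) : q ∈ ratG σ :=
  ⟨Φ.B_le_group (U_le_B hq), (inv_mul_eq_one.1 (Φ.diag_unip' hcen hrat hU hq hd hdf hqd)).symm⟩

include Φ in
/-- An overgroup of the rational points meets each parabolic subgroup in rational points, if it
meets `U` so. -/
theorem parabolic_rat (hok : spanCert D = true) (hcen : Φ.CenFact K) (hrat : Φ.ratE σ ≤ H)
    (hHG : H ≤ D.group K) (hU : ∀ u ∈ H, u ∈ D.posUnipotent K → u ∈ ratG σ)
    {x : Fin D.rank → ℝ} (hx : ∀ i, 0 ≤ x i) {i0 : Fin D.rank} (hi0 : x i0 ≠ 0)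
    {g : GL D.Idx K} (hgH : g ∈ H) (hgs : g ∈ stabR (Φ.wtIdx x)) : g ∈ ratG σ := by
  classical
  set Q := D.unipotentRadical K (zeroSet x) with hQ
  have hgG := hHG hgH
  have hnorm : ∀ b ∈ D.group K, b ∈ stabR (Φ.wtIdx x) → ∀ a ∈ Q, b * a * b⁻¹ ∈ Q := by
    intro b hbG hbs a ha
    have hb : b ∈ D.parabolicSubgroup K (zeroSet x) := by
      rw [← Φ.stabR_inf_group hx]; exact ⟨hbs, hbG⟩
    exact (Subgroup.mem_normalizer_iff.1 (Φ.parabolic_le_normalizer _ hb) a).1 ha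
  -- `g⁻¹ fr g` centralises the rational radical
  set z := g⁻¹ * fr σ g with hz
  have hzs : z ∈ stabR (Φ.wtIdx x) := mul_mem (inv_mem hgs) (fr_mem_stabR σ _ hgs)
  have hzG : z ∈ D.group K := mul_mem (inv_mem hgG) (Φ.fr_mem_group σ hgG)
  have hcomm : ∀ a ∈ ratG σ, a ∈ Q → Commute z a := by
    intro a ha haQ
    have h1 : g * a * g⁻¹ ∈ ratG σ :=
      hU _ (mul_mem (mul_mem hgH (hrat (Φ.fixed_U_mem_ratE σ (radical_le_U Φ _ haQ) ha.2)))
        (inv_mem hgH)) (radical_le_U Φ _ (hnorm g hgG hgs a haQ))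
    have h2 : fr σ (g * a * g⁻¹) = g * a * g⁻¹ := h1.2
    rw [map_mul, map_mul, map_inv, show fr σ a = a from ha.2] at h2
    show z * a = a * z
    rw [hz]
    calc g⁻¹ * fr σ g * a = g⁻¹ * (fr σ g * a * (fr σ g)⁻¹) * fr σ g := by group
      _ = _ := by rw [h2]; group
  have hxgQ : ∀ r, 0 < Φ.wt x r → Φ.toAlg.xg r (1 : K) ∈ Q := by
    intro r hr
    rw [hQ, Φ.unipotentRadical_eq]
    refine Φ.xg_mem_US (Φ.out_iff_pos_and_not_sub.mpr ⟨?_, fun hs => ?_⟩) _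
    · by_contra hn
      linarith [Φ.wt_nonpos hx hn]
    · linarith [Φ.wt_sub_zero hs]
  have hzU : z ∈ D.posUnipotent K := Φ.mem_U_of_commute_out hok hx hi0 hzG hzs
    fun r hr => hcomm _ (Φ.xg_mem_ratG σ (map_one σ)) (hxgQ r hr)
  -- the longest element fixing the grading
  obtain ⟨π, hπ', hmax⟩ := Finset.exists_max_image
    (Finset.univ.filter fun π => π ∈ Φ.WL ∧ Φ.act π x = x) Φ.inv
    ⟨1, by simp [one_mem, Φ.act_one]⟩
  simp only [Finset.mem_filter, Finset.mem_univ, true_and] at hπ' hmax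
  obtain ⟨hπ, hπx⟩ := hπ'
  have hneg : ∀ j, x j = 0 → ¬ Φ.toTables.Pos (π (Φ.p j)) := by
    intro j hj hp
    have hrx : Φ.act (Φ.reflPerm j) x = x := funext fun k => by
      show Φ.wt x (Φ.refl j (Φ.p k)) = x k
      rw [Φ.wt_refl, hj, mul_zero, sub_zero, Φ.wt_p]
    have h2 := hmax (π * Φ.reflPerm j)
      ⟨mul_mem hπ (Φ.reflPerm_mem_WL j), by rw [Φ.act_mul hπ, hπx, hrx]⟩
    have h3 := Φ.inv_mul_refl_lt (mul_mem hπ (Φ.reflPerm_mem_WL j)) (i := j) (by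
      show ¬ Φ.toTables.Pos (π (Φ.refl j (Φ.p j)))
      rw [Φ.refl_p, Φ.map_rev hπ, Φ.pos_rev_iff, not_not]
      exact hp)
    rw [mul_assoc, Φ.reflPerm_mul_self', mul_one] at h3
    omega
  obtain ⟨n, hn, hnrE, hm⟩ := Φ.exists_rat_mono σ hπ
  have hnr := Φ.ratE_le_ratG σ hnrE
  have hns := Φ.mono_mem_stabR hn hπ hm hπx
  have hnG := hnr.1
  have hzU' : n * z * n⁻¹ ∈ D.posUnipotent K := by
    refine Φ.mem_U_of_commute_out hok hx hi0 (mul_mem (mul_mem hnG hzG) (inv_mem hnG))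
      (mul_mem (mul_mem hns hzs) (inv_mem hns)) fun r hr => ?_
    have h1 := hcomm (n⁻¹ * Φ.toAlg.xg r 1 * n⁻¹⁻¹)
      (mul_mem (mul_mem (inv_mem hnr) (Φ.xg_mem_ratG σ (map_one σ))) (inv_mem (inv_mem hnr)))
      (hnorm n⁻¹ (inv_mem hnG) (inv_mem hns) _ (hxgQ r hr))
    show n * z * n⁻¹ * _ = _
    calc n * z * n⁻¹ * Φ.toAlg.xg r 1 = n * (z * (n⁻¹ * Φ.toAlg.xg r 1 * n⁻¹⁻¹)) * n⁻¹ := by group
      _ = n * ((n⁻¹ * Φ.toAlg.xg r 1 * n⁻¹⁻¹) * z) * n⁻¹ := by rw [h1.eq]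
      _ = _ := by group
  have hzR : z ∈ radP (Φ.wtIdx x) := by
    obtain ⟨P, hP, M, hM, e⟩ := Φ.exists_split_inv π hzU
    have hnP : n * P * n⁻¹ ∈ D.posUnipotent K := by
      rw [Φ.posUnipotent_eq_US]
      exact Φ.mono_conj_US hm (fun r hr => hr.2) hP
    have hnM : n * M * n⁻¹ ∈ D.borelSubgroup K ⊓ D.negUnipotent K := by
      refine Subgroup.mem_inf.2 ⟨U_le_B ?_, ?_⟩
      · rw [show n * M * n⁻¹ = (n * P * n⁻¹)⁻¹ * (n * z * n⁻¹) by rw [e]; group]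
        exact mul_mem (inv_mem hnP) hzU'
      · rw [Φ.negUnipotent_eq_US]
        exact Φ.mono_conj_US hm (fun r hr => hr.2) hM
    rw [Φ.B_inf_V, Subgroup.mem_bot, conj_eq_one_iff] at hnM
    rw [e, hnM, mul_one]
    refine Φ.US_le_radP (fun r hr => ?_) hP
    by_contra h0
    have h0' : Φ.wt x r = 0 := le_antisymm (not_lt.1 h0) (Φ.wt_nonneg hx hr.1)
    obtain ⟨k, hk⟩ := Φ.exists_V_pos hr.2
    have hle : Φ.V (π r) k ≤ 0 := by
      rw [Φ.V_map hπ r]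
      refine Finset.sum_nonpos fun j _ => ?_
      by_cases hj : x j = 0
      · exact mul_nonpos_of_nonneg_of_nonpos (Φ.V_nonneg r hr.1 j) (Φ.V_nonpos _ (hneg j hj) k)
      · have h4 := (Finset.sum_eq_zero_iff_of_nonneg (fun m _ =>
          mul_nonneg (by exact_mod_cast Φ.V_nonneg r hr.1 m) (hx m))).1 h0' j (Finset.mem_univ j)
        have : Φ.V r j = 0 := by exact_mod_cast (mul_eq_zero.1 h4).resolve_right hj
        simp [this]
    omega
  -- the Levi component is rational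
  have hgP : g ∈ D.parabolicSubgroup K (zeroSet x) := by
    rw [← Φ.stabR_inf_group hx]; exact ⟨hgs, hgG⟩
  have hn' : D.leviSubgroup K (zeroSet x) ≤ Subgroup.normalizer (Q : Set (GL D.Idx K)) :=
    le_trans (by rw [← Φ.unipotentRadical_sup_levi]; exact le_sup_right) (Φ.parabolic_le_normalizer _)
  rw [← Φ.unipotentRadical_sup_levi, ← SetLike.mem_coe,
    Subgroup.coe_mul_of_right_le_normalizer_left _ _ hn'] at hgP
  obtain ⟨q, hq, l, hl, e⟩ := hgP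
  simp only at e
  have hqR : q ∈ radP (Φ.wtIdx x) := by
    rw [SetLike.mem_coe, hQ, Φ.unipotentRadical_eq] at hq
    exact Φ.US_le_radP (fun r hr => Φ.wt_out_pos hx hr) hq
  have hlevi : ∀ y : Fin D.rank → ℝ, (∀ r, Φ.Sub (natSet (zeroSet x)) r → 0 ≤ Φ.wt y r) →
      l ∈ stabR (Φ.wtIdx y) := by
    intro y hy
    rw [SetLike.mem_coe, Φ.leviSubgroup_eq] at hl
    exact (sup_le (fun h hh => Φ.diag_mem_stabR _ hh) (Φ.US_le_stabR hy) :
      _ ≤ stabR (Φ.wtIdx y)) hl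
  have hlx : l ∈ stabR (Φ.wtIdx x) := hlevi x fun r hr => (Φ.wt_sub_zero hr).ge
  have hly : l ∈ stabR (Φ.wtIdx fun j => -x j) := hlevi _ fun r hr => by
    rw [Φ.wt_negv, Φ.wt_sub_zero hr, neg_zero]
  have hll : fr σ l * l⁻¹ = 1 := by
    refine eq_one_of_stabR_radP (Φ.wtIdx fun j => -x j) (fun a => by rw [Φ.wtIdx_negv, neg_neg])
      (mul_mem (fr_mem_stabR σ _ hly) (inv_mem hly)) ?_
    have e2 : fr σ l * l⁻¹ = (fr σ q)⁻¹ * q * (l * z * l⁻¹) := by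
      rw [hz, ← e, map_mul]; group
    rw [e2]
    exact mul_mem (mul_mem (inv_mem (fr_mem_radP σ _ hqR)) hqR) (radP_conj _ hlx hzR)
  have hlG : l ∈ D.group K := by
    rw [show l = q⁻¹ * g by rw [← e]; group]
    exact mul_mem (inv_mem (Φ.B_le_group (U_le_B (radical_le_U Φ _ hq)))) hgG
  have hlr : l ∈ ratG σ := ⟨hlG, mul_inv_eq_one.1 hll⟩
  obtain ⟨v, hvE, hvU, d, hd, hdf, w, hwE, el⟩ := Φ.ratG_decomp σ hlr
  have hqd : q * v * d ∈ H := by
    rw [show q * v * d = g * w⁻¹ by rw [← e, el]; group]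
    exact mul_mem hgH (inv_mem (hrat hwE))
  have hqv := Φ.diag_unip σ hcen hrat hU (mul_mem (radical_le_U Φ _ hq) hvU) hd hdf hqd
  rw [show g = q * v * (v⁻¹ * l * w⁻¹) * w by rw [← e]; group]
  exact mul_mem (mul_mem hqv (mul_mem (mul_mem (inv_mem (Φ.ratE_le_ratG σ hvE)) hlr)
    (inv_mem (Φ.ratE_le_ratG σ hwE)))) (Φ.ratE_le_ratG σ hwE)

include Φ in
/-- The normaliser in `H` of a rational `p`-subgroup consists of rational points. -/
theorem normalizer_rat (p : ℕ) [Fact p.Prime] [CharP K p] (hfin : {x : K | σ x = x}.Finite)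
    (hrat : Φ.ratE σ ≤ H) (hHG : H ≤ D.group K)
    (hP : ∀ x : Fin D.rank → ℝ, (∀ i, 0 ≤ x i) → ∀ i, x i ≠ 0 → ∀ g ∈ H,
      g ∈ stabR (Φ.wtIdx x) → g ∈ ratG σ)
    {R : Subgroup (GL D.Idx K)} (hRr : R ≤ ratG σ) (hR : IsPGroup p ↥R) (hne : R ≠ ⊥)
    {k : GL D.Idx K} (hk : k ∈ H) (hkn : k ∈ Subgroup.normalizer (R : Set (GL D.Idx K))) :
    k ∈ ratG σ := by
  obtain ⟨g, hg, x, hx, hgx, hmin, i0, hi0⟩ := Φ.exists_min_adm_of_conj hne
    (Φ.exists_conj_le_U_rat σ p hfin hRr hR)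
  have hfr : Φ.Adm R (fr σ g) x := by
    intro r hr a b hab
    have e : (fr σ g)⁻¹ * r * fr σ g = fr σ (g⁻¹ * r * g) := by
      rw [map_mul, map_mul, map_inv, show fr σ r = r from (hRr hr).2]
    rw [e, fr_sub_one] at hab
    exact hgx r hr a b fun e => hab (by rw [e, map_zero])
  obtain ⟨m, hm, hmg⟩ := Φ.exists_rat_coset σ hx hg
    (Φ.adm_unique hg (Φ.fr_mem_group σ hg) hx hgx hfr hmin)
  have hmx : Φ.Adm R m x := by
    have := hgx.mul_stab Φ (inv_mem hmg)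
    rwa [show g * (m⁻¹ * g)⁻¹ = m by group] at this
  have hkm : Φ.Adm R (k * m) x := by
    intro r hr
    have := hmx _ ((Subgroup.mem_normalizer_iff''.1 hkn r).1 hr)
    rwa [show m⁻¹ * (k⁻¹ * r * k) * m = (k * m)⁻¹ * r * (k * m) by group] at this
  have hmr := Φ.ratE_le_ratG σ hm
  have h1 := hP x hx i0 hi0 (m⁻¹ * (k * m)) (mul_mem (inv_mem (hrat hm)) (mul_mem hk (hrat hm)))
    (Φ.adm_unique hmr.1 (mul_mem (hHG hk) hmr.1) hx hmx hkm hmin)
  rw [show k = m * (m⁻¹ * (k * m)) * m⁻¹ by group]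
  exact mul_mem (mul_mem hmr h1) (inv_mem hmr)

end Chev

end CfsgLib.Chev
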