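/-
The centraliser in `U` of the rational root elements, and the unipotent part of an overgroup of the
rational points.
-/
import Cfsg.Agent.Lib.Chev.SubfieldMax.Rational
import Cfsg.Agent.Lib.Chev.Aut.Types
import Mathlib.GroupTheory.PGroup
import Mathlib.GroupTheory.Nilpotent

set_option autoImplicit false
set_option linter.dupNamespace false
set_option linter.unusedSectionVars false
set_option linter.unusedSimpArgs false

namespace CfsgLib.Chev

open Cfsg.Lie Matrix

/-- The roots of `L` are central modulo `z`, and every other positive root is moved by another one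
with leading coefficient satisfying `nz`. -/
def centralCert (D : ChevalleyDatum) (z nz : ℤ → Bool) (L : List ℕ) : Bool :=
  (List.range D.nroots).all fun r => decide (2 * r < D.nroots) ||
    if L.contains r then
      (List.range D.nroots).all fun s => decide (2 * s < D.nroots) || decide (s = r) ||
        (D.commTerms r s).all fun c => z c.2.1
    else
      (List.range D.nroots).any fun s => decide (D.nroots ≤ 2 * s) && decide (s ≠ r) &&
        match D.commTerms r s with
        | hd :: tl => decide (D.chainRoot r s 1 = some hd.1) && decide (hd.2.2.1 = 1) &&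
            decide (hd.2.2.2 = 1) && nz hd.2.1 && tl.all fun c => decide (hd.1 < c.1)
        | [] => false

namespace Chev

variable {D : ChevalleyDatum} (Φ : Chev D) {K : Type*} [Field K] {z nz : ℤ → Bool} {L : List ℕ}

theorem tval_eq_one_of_zero {M : List (ℕ × ℤ × ℕ × ℕ)} (hM : ∀ c ∈ M, (c.2.1 : K) = 0) (t u : K) :
    Φ.tval t u M = 1 := by
  refine List.prod_eq_one fun g hg => ?_
  obtain ⟨c, hc, rfl⟩ := List.mem_map.1 hg
  split
  · rw [hM c hc]; simp
  · rfl

theorem ne_rev_of_pos {r s : Fin D.nroots} (hr : Φ.toTables.Pos r) (hs : Φ.toTables.Pos s) :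
    s ≠ r.rev := fun e => (Φ.pos_rev_iff r).1 (e ▸ hs) hr

theorem commute_central (hok : centralCert D z nz L = true) (hz : ∀ c, z c = true → (c : K) = 0)
    {r : Fin D.nroots} (hr : Φ.toTables.Pos r) (hL : r.val ∈ L) (a : K)
    {x : GL D.Idx K} (hx : x ∈ Φ.US K Φ.toTables.Pos) : Commute (Φ.toAlg.xg r a) x := by
  induction hx using Subgroup.closure_induction with
  | mem y hy =>
    obtain ⟨s, u, hs, rfl⟩ := hy
    by_cases hsr : s = r
    · subst hsr
      show _ = _
      rw [← Φ.toAlg.xg_add, ← Φ.toAlg.xg_add, add_comm]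
    have h := List.all_eq_true.1 hok r.val (List.mem_range.2 r.isLt)
    rw [decide_eq_false (show ¬ 2 * r.val < D.nroots by show ¬ _; exact not_lt.2 hr), Bool.false_or,
      if_pos (List.contains_iff_mem.2 hL)] at h
    have h' := List.all_eq_true.1 h s.val (List.mem_range.2 s.isLt)
    rw [decide_eq_false (show ¬ 2 * s.val < D.nroots from not_lt.2 hs),
      decide_eq_false (fun e => hsr (Fin.ext e)), Bool.false_or, Bool.false_or] at h'
    refine Eq.symm ?_
    show Φ.toAlg.xg s u * Φ.toAlg.xg r a = _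
    rw [Φ.comm_xg hsr (Φ.ne_rev_of_pos hr hs),
      Φ.tval_eq_one_of_zero (fun c hc => hz _ (List.all_eq_true.1 h' c hc)), mul_one]
  | one => exact Commute.one_right _
  | mul y w _ _ hy hw => exact hy.mul_right hw
  | inv y _ hy => exact hy.inv_right

/-- The leading coordinate of an element commuting with the root elements vanishes outside `L`. -/
theorem lead_eq_zero (hok : centralCert D z nz L = true) (hnz : ∀ c, nz c = true → (c : K) ≠ 0)
    {r : Fin D.nroots} (hr : Φ.toTables.Pos r) (hL : r.val ∉ L) {a : K} {rest : GL D.Idx K}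
    (hc : 0 ≤ Φ.toTables.code r + 1)
    (hrest : rest ∈ raiseSubgroup (fun x => 1 * Φ.toSys.codeIdx x) (Φ.toTables.code r + 1) hc)
    (hcomm : ∀ s, Φ.toTables.Pos s → Commute (Φ.toAlg.xg r a * rest) (Φ.toAlg.xg s (1 : K))) :
    a = 0 := by
  have h := List.all_eq_true.1 hok r.val (List.mem_range.2 r.isLt)
  rw [decide_eq_false (show ¬ 2 * r.val < D.nroots from not_lt.2 hr), Bool.false_or,
    if_neg (by simpa using hL), List.any_eq_true] at h
  obtain ⟨s', hs', h⟩ := h
  rw [List.mem_range] at hs'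
  simp only [Bool.and_eq_true, decide_eq_true_eq] at h
  obtain ⟨⟨hsp, hsr⟩, h⟩ := h
  set s : Fin D.nroots := ⟨s', hs'⟩ with hs
  have hsp' : Φ.toTables.Pos s := hsp
  have hne : s ≠ r := fun e => hsr (congrArg Fin.val e)
  rcases hct : D.commTerms r.val s' with _ | ⟨hd, tl⟩
  · rw [hct] at h; exact absurd h (by simp)
  rw [hct] at h
  simp only [Bool.and_eq_true, decide_eq_true_eq, List.all_eq_true] at h
  obtain ⟨⟨⟨⟨hchain, hi⟩, hj⟩, hcoef⟩, htl⟩ := h
  -- the root of the first term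
  have hq : ∃ hlt : hd.1 < D.nroots,
      Φ.toTables.code ⟨hd.1, hlt⟩ = Φ.toTables.code r + Φ.toTables.code s := by
    rw [ChevalleyDatum.chainRoot, show D.chainEntry r.val s' = _ from Φ.toSys.chainEntry_eq r s] at hchain
    obtain ⟨e, he, he'⟩ := Option.map_eq_some_iff.mp hchain
    unfold Tables.entry at he
    by_cases e1 : (Φ.toTables.ch r s 1).2 = 0
    · simp [e1] at he
    · simp [e1] at he
      subst he
      simp only at he'
      refine ⟨he' ▸ Fin.isLt _, ?_⟩
      rw [show (⟨hd.1, he' ▸ Fin.isLt _⟩ : Fin D.nroots) = (Φ.toTables.ch r s 1).1 from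
        Fin.ext he'.symm, Φ.toSys.code_ch r s 1 e1, Nat.cast_one, one_mul]
  obtain ⟨hlt, hcode⟩ := hq
  have hcr := Φ.code_pos hr
  have hcs := Φ.code_pos hsp'
  set q : Fin D.nroots := ⟨hd.1, hlt⟩
  have hqp : Φ.toTables.Pos q := (Φ.code_pos_iff q).1 (by omega)
  -- the commutator of the two root elements is a deeper element
  set X := Φ.toAlg.xg r a
  set S := Φ.toAlg.xg s (1 : K)
  set W := Φ.tval a 1 (D.commTerms r.val s.val) with hW
  have hSX : S * X = X * S * W := Φ.comm_xg hne (Φ.ne_rev_of_pos hr hsp') a 1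
  have hWe : W = S⁻¹ * rest * S * rest⁻¹ := by
    have h1 : X * rest * S = S * (X * rest) := (hcomm s hsp').eq
    rw [show W = S⁻¹ * X⁻¹ * (S * (X * rest)) * rest⁻¹ by rw [← mul_assoc S, hSX]; group, ← h1]
    group
  have hWr : W ∈ raiseSubgroup (fun x => 1 * Φ.toSys.codeIdx x)
      (Φ.toTables.code q + 1) (by omega) := by
    rw [hWe]
    obtain ⟨p1, p2⟩ := commutator_mem_raiseSubgroup (fun x => 1 * Φ.toSys.codeIdx x) hcs.le hc
      (inv_mem (Φ.xg_mem_raise (F := K) hsp' 1)) hrest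
    rw [inv_inv] at p1 p2
    exact ⟨p1.mono _ (by omega), p2.mono _ (by omega)⟩
  have hdec : W = Φ.toAlg.xg q ((hd.2.1 : K) * (-a)) * Φ.tval a 1 tl := by
    rw [hW, show D.commTerms r.val s.val = hd :: tl from hct]
    simp only [tval, List.map_cons, List.prod_cons, dif_pos hlt, hi, hj, pow_one, mul_one]
    rfl
  have htail : Φ.tval a 1 tl ∈ raiseSubgroup (fun x => 1 * Φ.toSys.codeIdx x)
      (Φ.toTables.code q + 1) (by omega) := by
    refine Subgroup.list_prod_mem _ fun g hg => ?_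
    obtain ⟨c, hc', rfl⟩ := List.mem_map.1 hg
    split
    · next hl =>
      have hlt' : Φ.toTables.code q < Φ.toTables.code ⟨c.1, hl⟩ :=
        Φ.code_strictMono (show q < ⟨c.1, hl⟩ from htl c hc')
      have hp : Φ.toTables.Pos ⟨c.1, hl⟩ := (Φ.code_pos_iff _).1 (by omega)
      obtain ⟨p1, p2⟩ := Φ.xg_mem_raise (F := K) hp ((c.2.1 : K) * (-a) ^ c.2.2.1 * 1 ^ c.2.2.2)
      exact ⟨p1.mono _ (by omega), p2.mono _ (by omega)⟩
    · exact one_mem _
  have h0 : Φ.toAlg.xg q ((hd.2.1 : K) * (-a)) ∈ raiseSubgroup (fun x => 1 * Φ.toSys.codeIdx x)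
      (Φ.toTables.code q + 1) (by omega) := by
    have := mul_mem hWr (inv_mem htail)
    rwa [hdec, mul_inv_cancel_right] at this
  simpa [hnz _ hcoef] using Φ.eq_zero_of_mem_raise hqp _ (lt_add_one _) h0

/-- The centraliser in `U` of the root elements with parameter one is supported on `L`. -/
theorem coord_eq_zero (hok : centralCert D z nz L = true) (hz : ∀ c, z c = true → (c : K) = 0)
    (hnz : ∀ c, nz c = true → (c : K) ≠ 0) :
    ∀ {M : List (Fin D.nroots)}, M.Pairwise (· < ·) → (∀ r ∈ M, Φ.toTables.Pos r) →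
    ∀ {t : Fin D.nroots → K},
      (∀ s, Φ.toTables.Pos s → Commute (Φ.prodL M t) (Φ.toAlg.xg s (1 : K))) →
      ∀ r ∈ M, r.val ∉ L → t r = 0 := by
  intro M
  induction M with
  | nil => intro _ _ t _ r hr; simp at hr
  | cons a M ih =>
    intro hs hp t hc r hr hrL
    rw [List.pairwise_cons] at hs
    have ha := hp a List.mem_cons_self
    have htail : Φ.prodL M t ∈ raiseSubgroup (fun x => 1 * Φ.toSys.codeIdx x)
        (Φ.toTables.code a + 1) (by have := Φ.code_pos ha; omega) := by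
      refine Φ.US_le_raise 1 _ _ (fun x (hx : x ∈ M) => ?_) (Φ.prodL_mem_US M t)
      have := Φ.code_strictMono (hs.1 x hx)
      omega
    have he : Φ.prodL (a :: M) t = Φ.toAlg.xg a (t a) * Φ.prodL M t := by simp [prodL]
    have hrest : ∀ s, Φ.toTables.Pos s → Commute (Φ.prodL M t) (Φ.toAlg.xg s (1 : K)) := by
      intro s hsp
      by_cases haL : a.val ∈ L
      · have h2 := hc s hsp
        rw [he] at h2
        have h3 := Φ.commute_central hok hz ha haL (t a) (Φ.xg_mem_US (F := K) hsp 1)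
        have := h3.inv_left.mul_left h2
        rwa [inv_mul_cancel_left] at this
      · have h0 := Φ.lead_eq_zero hok hnz ha haL _ htail (by rw [← he]; exact hc)
        have h2 := hc s hsp
        rwa [he, h0, Φ.toAlg.xg_zero, one_mul] at h2
    rcases List.mem_cons.1 hr with rfl | hr'
    · exact Φ.lead_eq_zero hok hnz ha hrL _ htail (by rw [← he]; exact hc)
    · exact ih hs.2 (fun x hx => hp x (List.mem_cons_of_mem _ hx)) hrest r hr' hrL

/-- Adding central coordinates. -/
theorem prodL_add : ∀ {M : List (Fin D.nroots)} {S : Fin D.nroots → Prop}, (∀ r ∈ M, S r) →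
    ∀ {t d : Fin D.nroots → K},
      (∀ r ∈ M, d r = 0 ∨ ∀ x ∈ Φ.US K S, Commute (Φ.toAlg.xg r (d r)) x) →
      Φ.prodL M t * Φ.prodL M d = Φ.prodL M fun r => t r + d r := by
  intro M
  induction M with
  | nil => intro S _ t d _; simp [prodL]
  | cons a M ih =>
    intro S hS t d hd
    have hM : Φ.prodL M t ∈ Φ.US K S :=
      Φ.US_mono (fun r (hr : r ∈ M) => hS r (List.mem_cons_of_mem _ hr)) (Φ.prodL_mem_US M t)
    have hc : Commute (Φ.toAlg.xg a (d a)) (Φ.prodL M t) := by
      rcases hd a List.mem_cons_self with h | h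
      · rw [h, Φ.toAlg.xg_zero]; exact Commute.one_left _
      · exact h _ hM
    have := ih (S := S) (t := t) (d := d) (fun r hr => hS r (List.mem_cons_of_mem _ hr))
      (fun r hr => hd r (List.mem_cons_of_mem _ hr))
    simp only [prodL, List.map_cons, List.prod_cons] at this hc ⊢
    rw [Φ.toAlg.xg_add, ← this]
    calc _ = Φ.toAlg.xg a (t a) * ((M.map fun r => Φ.toAlg.xg r (t r)).prod * Φ.toAlg.xg a (d a)) *
          (M.map fun r => Φ.toAlg.xg r (d r)).prod := by group
      _ = _ := by rw [← hc.eq]; group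

include Φ in
/-- A subgroup of `U` is a `p`-group. -/
theorem isPGroup_of_le_U (p : ℕ) [Fact p.Prime] [CharP K p] {S : Subgroup (GL D.Idx K)}
    (hS : S ≤ D.posUnipotent K) : IsPGroup p ↥S := by
  classical
  set w : D.Idx → ℤ := fun x => 1 * Φ.toSys.codeIdx x
  rintro ⟨r, hr⟩
  refine ⟨(Finset.univ.image w).card, Subtype.ext (Units.ext ?_)⟩
  rcases isEmpty_or_nonempty D.Idx with hI | hI
  · exact Subsingleton.elim _ _
  have hU := hS hr
  rw [Φ.posUnipotent_eq_US] at hU
  have h0 := (Φ.US_pos_le_raise hU).1.pow_eq_zero w (k := p ^ (Finset.univ.image w).card)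
    (Nat.lt_pow_self (Fact.out : p.Prime).one_lt).le
  rw [sub_pow_char_pow_of_commute _ _ (Commute.one_right _), one_pow, sub_eq_zero] at h0
  simpa using h0

theorem cenFact_of_cert (hok : centralCert D z nz L = true) (hz : ∀ c, z c = true → (c : K) = 0)
    (hnz : ∀ c, nz c = true → (c : K) ≠ 0) (hL : ∀ r ∈ L, ∀ i : Fin D.rank, r ≠ (Φ.p i).val) :
    Φ.CenFact K := by
  classical
  intro w hw hcomm i
  rw [Φ.posUnipotent_eq_US] at hw
  obtain ⟨d, hd⟩ := (Φ.mem_US_iff (fun _ h => h) Φ.closed_pos).1 hw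
  have hU' : ∀ r ∈ rootList Φ.toTables.Pos, Φ.toTables.Pos r := fun r hr => mem_rootList.1 hr
  have hd0 := Φ.coord_eq_zero hok hz hnz (pairwise_rootList _) hU' (hd ▸ hcomm)
  rw [hd]
  refine Subgroup.list_prod_mem _ fun g hg => ?_
  obtain ⟨r, hr, rfl⟩ := List.mem_map.1 hg
  by_cases hrL : r.val ∈ L
  · exact Φ.xg_mem_US ⟨hU' r hr, fun e => hL _ hrL i (congrArg Fin.val e)⟩ _
  · rw [hd0 r hr hrL, Φ.toAlg.xg_zero]; exact one_mem _

include Φ in
/-- The unipotent part of an overgroup is rational, if its central part is so. -/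
theorem unipotent_rat (p : ℕ) [Fact p.Prime] [CharP K p] (σ : K ≃+* K)
    {H : Subgroup (GL D.Idx K)} [Finite H] (hrat : Φ.ratE σ ≤ H)
    (hok : centralCert D z nz L = true) (hz : ∀ c, z c = true → (c : K) = 0)
    (hnz : ∀ c, nz c = true → (c : K) ≠ 0)
    (hcen : ∀ c ∈ H, c ∈ Φ.US K (fun r => Φ.toTables.Pos r ∧ r.val ∈ L) → c ∈ ratG σ)
    {u : GL D.Idx K} (huH : u ∈ H) (huU : u ∈ D.posUnipotent K) : u ∈ ratG σ := by
  classical
  set S := H ⊓ D.posUnipotent K with hS
  have hSp : IsPGroup p ↥S := Φ.isPGroup_of_le_U p inf_le_right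
  haveI : Finite ↥S := Finite.of_injective _ (Subgroup.inclusion_injective (inf_le_left : S ≤ H))
  set T := (ratG σ).subgroupOf S with hT
  by_contra hcon
  have hne : T < ⊤ := lt_top_iff_ne_top.2 fun e => hcon (by
    have : (⟨u, huH, huU⟩ : ↥S) ∈ T := e ▸ Subgroup.mem_top _
    exact this)
  have hnil : Group.IsNilpotent ↥S := hSp.isNilpotent
  obtain ⟨v, hvn, hvT⟩ := SetLike.exists_of_lt (Group.normalizerCondition_of_isNilpotent T hne)
  refine hvT ?_
  show (v : GL D.Idx K) ∈ ratG σ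
  obtain ⟨v, hvH, hvU⟩ := v
  simp only
  set U' := rootList Φ.toTables.Pos
  have hU' : ∀ r ∈ U', Φ.toTables.Pos r := fun r hr => mem_rootList.1 hr
  have hpw := pairwise_rootList (D := D) Φ.toTables.Pos
  have hfr : fr σ v ∈ D.posUnipotent K := by
    rw [Φ.posUnipotent_eq_US] at hvU ⊢
    exact Φ.map_mem_US _ hvU
  have hcomm : ∀ s, Φ.toTables.Pos s → Commute (v⁻¹ * fr σ v) (Φ.toAlg.xg s (1 : K)) := by
    intro s hs
    have hxS : Φ.toAlg.xg s (1 : K) ∈ S :=
      Subgroup.mem_inf.2 ⟨hrat (Φ.xg_mem_ratE σ (map_one σ)), Φ.xg_mem_U hs _⟩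
    have hx : (⟨Φ.toAlg.xg s 1, hxS⟩ : ↥S) ∈ T := by
      rw [hT, Subgroup.mem_subgroupOf]
      exact Φ.xg_mem_ratG σ (map_one σ)
    have h0 := (Subgroup.mem_normalizer_iff.1 hvn _).1 hx
    rw [hT, Subgroup.mem_subgroupOf, Subgroup.coe_mul, Subgroup.coe_mul, Subgroup.coe_inv] at h0
    have h1 : v * Φ.toAlg.xg s 1 * v⁻¹ ∈ ratG σ := h0
    have h2 : fr σ (v * Φ.toAlg.xg s 1 * v⁻¹) = v * Φ.toAlg.xg s 1 * v⁻¹ := h1.2
    rw [map_mul, map_mul, map_inv, Φ.fr_xg, map_one] at h2
    show v⁻¹ * fr σ v * _ = _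
    calc v⁻¹ * fr σ v * Φ.toAlg.xg s 1
        = v⁻¹ * (fr σ v * Φ.toAlg.xg s 1 * (fr σ v)⁻¹) * fr σ v := by group
      _ = _ := by rw [h2]; group
  have hw : v⁻¹ * fr σ v ∈ D.posUnipotent K := mul_mem (inv_mem hvU) hfr
  rw [Φ.posUnipotent_eq_US] at hvU hw
  obtain ⟨t, ht⟩ := (Φ.mem_US_iff (fun _ h => h) Φ.closed_pos).1 hvU
  obtain ⟨d, hd⟩ := (Φ.mem_US_iff (fun _ h => h) Φ.closed_pos).1 hw
  have hd0 : ∀ r ∈ U', r.val ∉ L → d r = 0 :=
    Φ.coord_eq_zero hok hz hnz hpw hU' (hd ▸ hcomm)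
  have hcent : ∀ e : Fin D.nroots → K, (∀ r ∈ U', r.val ∉ L → e r = 0) → ∀ r ∈ U', e r = 0 ∨
      ∀ x ∈ Φ.US K Φ.toTables.Pos, Commute (Φ.toAlg.xg r (e r)) x := by
    intro e he r hr
    by_cases hrL : r.val ∈ L
    · exact Or.inr fun x hx => Φ.commute_central hok hz (hU' r hr) hrL _ hx
    · exact Or.inl (he r hr hrL)
  have hsig : Φ.prodL U' (fun r => σ (t r)) = Φ.prodL U' fun r => t r + d r := by
    have h := Φ.prodL_add (t := t) hU' (hcent d hd0)
    rw [← hd, ← ht, mul_inv_cancel_left] at h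
    rw [← h, ht, fr, Φ.map_prodL]
    rfl
  set t0 : Fin D.nroots → K := fun r => if r.val ∈ L then 0 else t r
  set t1 : Fin D.nroots → K := fun r => if r.val ∈ L then t r else 0
  have hv01 : v = Φ.prodL U' t0 * Φ.prodL U' t1 := by
    rw [Φ.prodL_add (t := t0) hU' (hcent t1 fun r _ h => if_neg h), ht]
    congr 1
    funext r
    simp only [t0, t1]
    split_ifs <;> simp
  have h0E : Φ.prodL U' t0 ∈ Φ.ratE σ := by
    refine Subgroup.list_prod_mem _ fun g hg => ?_
    obtain ⟨r, hr, rfl⟩ := List.mem_map.1 hg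
    refine Φ.xg_mem_ratE σ ?_
    simp only [t0]
    split_ifs with hrL
    · exact map_zero σ
    · have := Φ.prodL_injective hpw hU' hsig r hr
      rwa [hd0 r hr hrL, add_zero] at this
  rw [hv01]
  refine mul_mem (Φ.ratE_le_ratG σ h0E) (hcen _ ?_ ?_)
  · rw [show Φ.prodL U' t1 = (Φ.prodL U' t0)⁻¹ * v by rw [hv01]; group]
    exact mul_mem (inv_mem (hrat h0E)) hvH
  · refine Subgroup.list_prod_mem _ fun g hg => ?_
    obtain ⟨r, hr, rfl⟩ := List.mem_map.1 hg
    simp only [t1]
    split_ifs with hrL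
    · exact Φ.xg_mem_US (S := fun r => Φ.toTables.Pos r ∧ r.val ∈ L) ⟨hU' r hr, hrL⟩ _
    · rw [Φ.toAlg.xg_zero]; exact one_mem _

end Chev

end CfsgLib.Chev
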