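/-
Overgroups of the rational points containing an irrational root element: each type.
-/
import Cfsg.Agent.Lib.Chev.SubfieldMax.Unipotent
import Cfsg.Agent.Lib.Chev.NGen
import Cfsg.Agent.Lib.Chev.Inst

set_option autoImplicit false
set_option linter.dupNamespace false
set_option linter.unusedSectionVars false
set_option linter.unusedSimpArgs false

namespace CfsgLib.Chev

open Cfsg.Lie Matrix

/-- The image of a root under a list of fundamental reflections. -/
def chainRefl (D : ChevalleyDatum) (l : List ℕ) (r : ℕ) : ℕ :=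
  l.foldr (fun a x => D.reflectRoot a x) r

/-- Every fundamental root is reached from `i` or from `j`. -/
def reachCert (D : ChevalleyDatum) (i j : ℕ) : Bool :=
  (List.range D.rank).all fun k =>
    (reachN D i D.rank).contains k || (reachN D j D.rank).contains k

namespace Chev

variable {D : ChevalleyDatum} (Φ : Chev D) {K : Type*} [Field K] (σ : K ≃+* K)

/-- The root of a given index. -/
def rt (D : ChevalleyDatum) (n : ℕ) (h : n < D.nroots := by decide +kernel) : Fin D.nroots := ⟨n, h⟩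

theorem p_eq {i : Fin D.rank} {n : ℕ} {h : n < D.nroots} (e : D.simple i.val = n) :
    Φ.p i = rt D n h :=
  Fin.ext ((Φ.simple_val i).symm.trans e)

theorem tval_mem {H : Subgroup (GL D.Idx K)} {r s : Fin D.nroots} (hne : s ≠ r) (hrev : s ≠ r.rev)
    {t u : K} (hr : Φ.toAlg.xg r t ∈ H) (hs : Φ.toAlg.xg s u ∈ H) :
    Φ.tval t u (D.commTerms r.val s.val) ∈ H := by
  have h := Φ.comm_xg hne hrev t u
  rw [show Φ.tval t u (D.commTerms r.val s.val) = (Φ.toAlg.xg r t * Φ.toAlg.xg s u)⁻¹ *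
    (Φ.toAlg.xg s u * Φ.toAlg.xg r t) by rw [h]; group]
  exact mul_mem (inv_mem (mul_mem hr hs)) (mul_mem hs hr)

theorem tval_single {c : ℤ} {i j n : ℕ} (hn : n < D.nroots) (t u : K) :
    Φ.tval t u [(n, c, i, j)] = Φ.toAlg.xg (rt D n hn) ((c : K) * (-t) ^ i * u ^ j) := by
  simp [tval, rt, hn]

theorem tval_cons {c : ℤ} {i j n : ℕ} (hn : n < D.nroots) (t u : K)
    (M : List (ℕ × ℤ × ℕ × ℕ)) : Φ.tval t u ((n, c, i, j) :: M) =
      Φ.toAlg.xg (rt D n hn) ((c : K) * (-t) ^ i * u ^ j) * Φ.tval t u M := by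
  simp [tval, rt, hn]

variable (H : Subgroup (GL D.Idx K))

/-- The parameters of the root elements of `r` in `H`. -/
def par (r : Fin D.nroots) : AddSubgroup K where
  carrier := {t | Φ.toAlg.xg r t ∈ H}
  zero_mem' := by
    show Φ.toAlg.xg r 0 ∈ H
    rw [Φ.toAlg.xg_zero]; exact one_mem _
  add_mem' := fun {a b} ha hb => by
    show Φ.toAlg.xg r (a + b) ∈ H
    rw [Φ.toAlg.xg_add]; exact mul_mem ha hb
  neg_mem' := fun {a} ha => by
    show Φ.toAlg.xg r (-a) ∈ H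
    rw [Φ.toAlg.xg_neg]; exact inv_mem ha

theorem mem_par {r : Fin D.nroots} {t : K} : t ∈ Φ.par H r ↔ Φ.toAlg.xg r t ∈ H := Iff.rfl

variable {σ H} (hrat : Φ.ratE σ ≤ H)

include hrat in
theorem fixed_mem_par (r : Fin D.nroots) {t : K} (ht : σ t = t) : t ∈ Φ.par H r :=
  hrat (Φ.xg_mem_ratE σ ht)

include hrat in
theorem par_refl (i : Fin D.rank) (r : Fin D.nroots) : Φ.par H (Φ.refl i r) = Φ.par H r := by
  have hn : Φ.nw (Φ.p i) (1 : Kˣ) ∈ H := hrat (Φ.nw_one_mem_ratE σ _)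
  have step : ∀ (s : Fin D.nroots) (t : K), t ∈ Φ.par H s → t ∈ Φ.par H (Φ.refl i s) := by
    intro s t ht
    have h1 : Φ.nw (Φ.p i) 1 * Φ.toAlg.xg s t * (Φ.nw (Φ.p i) 1)⁻¹ ∈ H :=
      mul_mem (mul_mem hn ht) (inv_mem hn)
    rw [Φ.nw_conj_xg, mul_inv_cancel_right] at h1
    rcases Φ.eta_unit i s with e | e <;> rw [e] at h1 <;> push_cast at h1
    · rwa [one_mul] at h1
    · have h2 := (Φ.par H (Φ.refl i s)).neg_mem h1
      rwa [neg_one_mul, neg_neg] at h2
  ext t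
  exact ⟨fun h => by simpa [Φ.refl_refl] using step _ t h, step r t⟩

include hrat in
theorem par_chain {r : Fin D.nroots} (l : List ℕ) (hl : ∀ a ∈ l, a < D.rank) {q : Fin D.nroots}
    (e : chainRefl D l r.val = q.val) : Φ.par H q = Φ.par H r := by
  induction l generalizing q with
  | nil => rw [show q = r from Fin.ext e.symm]
  | cons a l ih =>
    have ha := hl a List.mem_cons_self
    have e' : chainRefl D (a :: l) r.val = D.reflectRoot a (chainRefl D l r.val) := rfl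
    have hmem : chainRefl D l r.val < D.nroots := by
      clear ih e e' q
      induction l with
      | nil => exact r.isLt
      | cons b l ihl =>
        have hb := hl b (List.mem_cons_of_mem _ List.mem_cons_self)
        have h1 := ihl fun x hx => hl x (by
          rcases List.mem_cons.1 hx with rfl | hx
          · exact List.mem_cons_self
          · exact List.mem_cons_of_mem _ (List.mem_cons_of_mem _ hx))
        show D.reflectRoot b (chainRefl D l r.val) < D.nroots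
        rw [show D.reflectRoot b (chainRefl D l r.val) = (Φ.refl ⟨b, hb⟩ ⟨_, h1⟩).val from
          Φ.reflectRoot_eq ⟨b, hb⟩ ⟨_, h1⟩]
        exact Fin.isLt _
    have h2 : Φ.refl ⟨a, ha⟩ ⟨_, hmem⟩ = q := Fin.ext (by
      rw [← Φ.reflectRoot_eq ⟨a, ha⟩ ⟨_, hmem⟩, ← e, e'])
    rw [← h2, Φ.par_refl hrat, ih (fun x hx => hl x (List.mem_cons_of_mem _ hx)) rfl]

include hrat in
theorem par_reach (i : Fin D.rank) : ∀ n, ∀ k ∈ reachN D i.val n,
    ∃ hk : k < D.rank, Φ.par H (Φ.p ⟨k, hk⟩) = Φ.par H (Φ.p i) := by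
  intro n
  induction n with
  | zero => intro k hk; simp [reachN] at hk; subst hk; exact ⟨i.isLt, rfl⟩
  | succ n ih =>
    intro j hj
    simp only [reachN, List.mem_append, List.mem_filter, List.mem_range, Bool.and_eq_true,
      List.any_eq_true, Nat.beq_eq] at hj
    rcases hj with hj | ⟨hjr, -, a, ha, e⟩
    · exact ih j hj
    · obtain ⟨har, haP⟩ := ih a ha
      refine ⟨hjr, ?_⟩
      rw [← haP]
      refine Φ.par_chain hrat [a, j] (by simp [har, hjr]) ?_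
      rw [← Φ.simple_val ⟨j, hjr⟩, ← Φ.simple_val ⟨a, har⟩]
      exact e

include hrat in
theorem par_cls (i j : Fin D.rank) (hreach : reachCert D i.val j.val = true) (r : Fin D.nroots) :
    Φ.par H r = Φ.par H (Φ.p i) ∨ Φ.par H r = Φ.par H (Φ.p j) := by
  induction r using Φ.root_induction with
  | hp k =>
    simp only [reachCert, List.all_eq_true, List.mem_range, Bool.or_eq_true,
      List.contains_iff_mem] at hreach
    rcases hreach k.val k.isLt with h | h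
    · obtain ⟨_, e⟩ := Φ.par_reach hrat i _ _ h; exact Or.inl e
    · obtain ⟨_, e⟩ := Φ.par_reach hrat j _ _ h; exact Or.inr e
  | hstep k r ih => rwa [Φ.par_refl hrat]

/-- A subfield properly above the fixed field. -/
def IrrField (σ : K ≃+* K) (L : Subring K) : Prop :=
  (∀ x, σ x = x → x ∈ L) ∧ (∃ x ∈ L, σ x ≠ x) ∧ ∀ x ∈ L, x⁻¹ ∈ L

variable [Finite H]

theorem par_finite (r : Fin D.nroots) : (Φ.par H r : Set K).Finite := by
  refine Set.finite_coe_iff.1 (Finite.of_injective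
    (fun t : ↥(Φ.par H r) => (⟨Φ.toAlg.xg r t.1, t.2⟩ : ↥H)) fun a b h => ?_)
  exact Subtype.ext (Φ.toAlg.xg_injective r (congrArg Subtype.val h))

include hrat in
theorem par_big_of_mul {r : Fin D.nroots}
    (hmul : ∀ a b, a ∈ Φ.par H r → b ∈ Φ.par H r → a * b ∈ Φ.par H r)
    (h : ∃ t ∈ Φ.par H r, σ t ≠ t) : ∃ L : Subring K, IrrField σ L ∧ ∀ x ∈ L, x ∈ Φ.par H r := by
  let L : Subring K :=
    { Φ.par H r with
      one_mem' := Φ.fixed_mem_par hrat r (map_one σ)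
      mul_mem' := fun {a b} => hmul a b }
  refine ⟨L, ⟨fun x hx => Φ.fixed_mem_par hrat r hx, h, fun x hx => ?_⟩, fun x hx => hx⟩
  by_cases hx0 : x = 0
  · rw [hx0, _root_.inv_zero]; exact L.zero_mem
  haveI : Finite L := (Φ.par_finite (H := H) r).to_subtype
  have hinj : Function.Injective (fun y : L => (⟨x, hx⟩ : L) * y) := fun a b e =>
    Subtype.ext (mul_left_cancel₀ hx0 (congrArg Subtype.val e))
  obtain ⟨y, hy⟩ := (Finite.injective_iff_surjective.1 hinj) 1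
  rw [inv_eq_of_mul_eq_one_right (congrArg Subtype.val hy)]
  exact y.2

include hrat in
theorem long_top (i k : Fin D.rank) {c : ℤ} (hc : c = 1 ∨ c = -1) {n : ℕ}
    (hterms : D.commTerms (D.simple i.val) (D.simple k.val) = [(n, c, 1, 1)])
    (hq : D.reflectRoot i.val (D.simple k.val) = n) (hne : k ≠ i)
    (hreach : k.val ∈ reachN D i.val D.rank) (h : ∃ t ∈ Φ.par H (Φ.p i), σ t ≠ t) :
    ∃ L : Subring K, IrrField σ L ∧ ∀ x ∈ L, x ∈ Φ.par H (Φ.p i) := by
  refine Φ.par_big_of_mul hrat (fun a b ha hb => ?_) h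
  obtain ⟨_, e⟩ := Φ.par_reach hrat i _ _ hreach
  rw [Φ.simple_val, Φ.simple_val] at hterms
  have hn : n < D.nroots := by
    rw [← hq, Φ.simple_val, Φ.reflectRoot_eq]; exact Fin.isLt _
  have hq' : Φ.par H (rt D n hn) = Φ.par H (Φ.p i) := by
    rw [show rt D n hn = Φ.refl i (Φ.p k) from Fin.ext (by
      rw [← Φ.reflectRoot_eq, ← Φ.simple_val k]; exact hq.symm), Φ.par_refl hrat]
    exact e
  have hb' : b ∈ Φ.par H (Φ.p k) := by rw [show k = ⟨k.val, k.isLt⟩ from rfl, e]; exact hb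
  have hrev : Φ.p k ≠ (Φ.p i).rev := Φ.ne_rev_of_pos (Φ.p_pos i) (Φ.p_pos k)
  have hne' : Φ.p k ≠ Φ.p i := fun e' => hne (by
    have := Φ.V_p k i
    rw [e', Φ.V_p, if_pos rfl] at this
    by_contra hki
    rw [if_neg hki] at this
    exact one_ne_zero this)
  have := Φ.tval_mem hne' hrev (t := a) ha (u := b) hb'
  rw [hterms, Φ.tval_single hn] at this
  rw [← hq', mem_par]
  rcases hc with rfl | rfl
  · have h2 := (Φ.par H (rt D n hn)).neg_mem this
    push_cast at h2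
    simpa [mem_par] using h2
  · push_cast at this
    simpa using this

include hrat in
/-- A field in the long root subgroups goes to the short ones through the torus. -/
theorem short_top (i j : Fin D.rank) (hA : D.cartan i.val (D.simple j.val) = -1) {L : Subring K}
    (hinv : ∀ x ∈ L, x⁻¹ ∈ L) (h : ∀ x ∈ L, x ∈ Φ.par H (Φ.p i)) :
    ∀ x ∈ L, x ∈ Φ.par H (Φ.p j) := by
  intro x hxL
  by_cases hx : x = 0
  · subst hx; exact (Φ.par H _).zero_mem
  have hY : ∀ t ∈ L, Φ.toAlg.xg (Φ.p i).rev t ∈ H := fun t ht => by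
    have : t ∈ Φ.par H (Φ.refl i (Φ.p i)) := by rw [Φ.par_refl hrat]; exact h t ht
    rwa [Φ.refl_p] at this
  have hnw : ∀ t : Kˣ, (t : K) ∈ L → Φ.nw (Φ.p i) t ∈ H := fun t ht =>
    mul_mem (mul_mem (h _ ht) (hY _ (L.neg_mem (hinv _ ht)))) (h _ ht)
  set t : Kˣ := (Units.mk0 x hx)⁻¹ with htdef
  have htL : (t : K) ∈ L := by rw [htdef, Units.val_inv_eq_inv_val, Units.val_mk0]; exact hinv x hxL
  have hT : Φ.hw (Φ.p i) t ∈ H :=
    mul_mem (hnw _ htL) (hnw _ (by rw [Units.val_neg, Units.val_one]; exact L.neg_mem L.one_mem))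
  have h1 : Φ.hw (Φ.p i) t * Φ.toAlg.xg (Φ.p j) 1 * (Φ.hw (Φ.p i) t)⁻¹ ∈ H :=
    mul_mem (mul_mem hT (Φ.fixed_mem_par hrat _ (map_one σ))) (inv_mem hT)
  rw [Φ.hw_p, Φ.toAlg.torus_xg, mul_inv_cancel_right, Φ.toAlg.chi_cartanChar,
    show Φ.A i (Φ.p j) = -1 by rw [← Φ.cartan_val, ← Φ.simple_val]; exact hA] at h1
  rw [mem_par]
  simpa [t] using h1

include Φ in
theorem group_le_of_par (h : ∀ r, Φ.par H r = ⊤) : D.group K ≤ H := by
  rw [Φ.toAlg.group_eq, Subgroup.closure_le]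
  rintro _ ⟨r, t, rfl⟩
  exact (show t ∈ Φ.par H r by rw [h r]; trivial)

include hrat in
/-- The shape of the argument in each type. -/
theorem big_of_long (i j : Fin D.rank) (hreach : reachCert D i.val j.val = true)
    (hij : j = i ∨ D.cartan i.val (D.simple j.val) = -1)
    (hlong : (∃ t ∈ Φ.par H (Φ.p i), σ t ≠ t) →
      ∃ L : Subring K, IrrField σ L ∧ ∀ x ∈ L, x ∈ Φ.par H (Φ.p i))
    (hshort : (∃ t ∈ Φ.par H (Φ.p j), σ t ≠ t) → ∃ t ∈ Φ.par H (Φ.p i), σ t ≠ t)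
    {r : Fin D.nroots} {t : K} (ht : Φ.toAlg.xg r t ∈ H) (hσ : σ t ≠ t) :
    ∃ L : Subring K, IrrField σ L ∧ ∀ r, ∀ x ∈ L, Φ.toAlg.xg r x ∈ H := by
  have hi : ∃ t ∈ Φ.par H (Φ.p i), σ t ≠ t := by
    rcases Φ.par_cls hrat i j hreach r with e | e
    · exact ⟨t, e ▸ ht, hσ⟩
    · exact hshort ⟨t, e ▸ ht, hσ⟩
  obtain ⟨L, hL, h1⟩ := hlong hi
  have h2 : ∀ x ∈ L, x ∈ Φ.par H (Φ.p j) := by
    rcases hij with rfl | hA
    · exact h1
    · exact Φ.short_top hrat i j hA hL.2.2 h1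
  refine ⟨L, hL, fun r x hx => ?_⟩
  show x ∈ Φ.par H r
  rcases Φ.par_cls hrat i j hreach r with e | e <;> rw [e]
  · exact h1 x hx
  · exact h2 x hx

theorem sigma_smul {c t : K} (hc : c ≠ 0) (hσc : σ c = c) (ht : σ t ≠ t) : σ (c * t) ≠ c * t := by
  intro h
  rw [map_mul, hσc] at h
  exact ht (mul_left_cancel₀ hc h)

theorem sigma_pow (p : ℕ) [Fact p.Prime] [CharP K p] {t : K} (ht : σ t ≠ t) :
    σ (t ^ p) ≠ t ^ p := by
  intro h
  rw [map_pow] at h
  exact ht (frobenius_inj K p h)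

include hrat in
/-- An irrational short parameter gives an irrational long one, in good characteristic. -/
theorem short_to_long_single {r s q i : Fin D.nroots} (hne : s ≠ r) (hrev : s ≠ r.rev) {c : ℤ}
    (hc : (c : K) ≠ 0) (hterms : D.commTerms r.val s.val = [(q.val, c, 1, 1)])
    (hs : Φ.par H s = Φ.par H r) (hq : Φ.par H q = Φ.par H i)
    (h : ∃ t ∈ Φ.par H r, σ t ≠ t) : ∃ t ∈ Φ.par H i, σ t ≠ t := by
  obtain ⟨t, ht, hσ⟩ := h
  have h1 : (1 : K) ∈ Φ.par H r := Φ.fixed_mem_par hrat r (map_one σ)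
  have := Φ.tval_mem hne hrev (t := (1 : K)) h1 (u := t) (by rw [← mem_par, hs]; exact ht)
  rw [hterms, Φ.tval_single q.isLt] at this
  refine ⟨(c : K) * (-1) ^ 1 * t ^ 1, hq ▸ this, ?_⟩
  rw [pow_one, pow_one]
  exact sigma_smul (mul_ne_zero hc (by simp)) (by simp) hσ

include hrat in
/-- An irrational short parameter gives an irrational long one, in characteristic two. -/
theorem short_to_long_sq [CharP K 2] {r s q1 q2 i : Fin D.nroots} (hne : s ≠ r) (hrev : s ≠ r.rev)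
    {c1 c2 : ℤ} (hc1 : c1 = 1 ∨ c1 = -1) (hc2 : c2 = 1 ∨ c2 = -1)
    (hterms : D.commTerms r.val s.val = [(q1.val, c1, 1, 1), (q2.val, c2, 1, 2)])
    (hq1 : Φ.par H q1 = Φ.par H s) (hq2 : Φ.par H q2 = Φ.par H i)
    (h : ∃ t ∈ Φ.par H s, σ t ≠ t) : ∃ t ∈ Φ.par H i, σ t ≠ t := by
  obtain ⟨t, ht, hσ⟩ := h
  have one : ∀ c : ℤ, c = 1 ∨ c = -1 → (c : K) = 1 := by
    rintro c (rfl | rfl)
    · simp
    · push_cast; rw [CharTwo.neg_eq]
  have := Φ.tval_mem hne hrev (t := (1 : K)) (Φ.fixed_mem_par hrat r (map_one σ)) (u := t) ht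
  rw [hterms, Φ.tval_cons q1.isLt, Φ.tval_single q2.isLt, one c1 hc1, one c2 hc2, CharTwo.neg_eq] at this
  simp only [one_pow, one_mul, pow_one] at this
  have hA : Φ.toAlg.xg (rt D q1.val q1.isLt) t ∈ H := (hq1 ▸ ht : t ∈ Φ.par H q1)
  refine ⟨t ^ 2, hq2 ▸ (H.mul_mem_cancel_left hA).1 this, ?_⟩
  haveI : Fact (Nat.Prime 2) := ⟨Nat.prime_two⟩
  exact sigma_pow 2 hσ

include hrat in
/-- Separation of the two central roots. -/
theorem sep_central {r a b q : Fin D.nroots} (ha : a ≠ r) (ha' : a ≠ r.rev) (hb : b ≠ r)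
    (hb' : b ≠ r.rev) (hbz : ∀ c ∈ D.commTerms r.val b.val, (c.2.1 : K) = 0) {c : ℤ}
    (hc : (c : K) ≠ 0) (haq : ∀ d : K, Φ.tval 1 d (D.commTerms r.val a.val) = Φ.toAlg.xg q ((c : K) * d))
    (hqbc : ∀ u v : K, Commute (Φ.toAlg.xg q u) (Φ.toAlg.xg b v))
    (hnoroot : ∀ (r : Fin D.nroots) (t : K), Φ.toAlg.xg r t ∈ H → σ t = t)
    {d e : K} (hw : Φ.toAlg.xg a d * Φ.toAlg.xg b e ∈ H) : σ d = d ∧ σ e = e := by
  set T := Φ.toAlg.xg r (1 : K)
  have hT : T ∈ H := hrat (Φ.xg_mem_ratE σ (map_one σ))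
  have h1 : Φ.toAlg.xg b e * T = T * Φ.toAlg.xg b e := by
    rw [Φ.comm_xg hb hb', Φ.tval_eq_one_of_zero hbz, mul_one]
  have h2 : Φ.toAlg.xg a d * T = T * Φ.toAlg.xg a d * Φ.toAlg.xg q ((c : K) * d) := by
    rw [Φ.comm_xg ha ha', haq]
  have h3 : Φ.toAlg.xg q ((c : K) * d) ∈ H := by
    have h4 : (Φ.toAlg.xg a d * Φ.toAlg.xg b e)⁻¹ * T⁻¹ * (Φ.toAlg.xg a d * Φ.toAlg.xg b e) * T =
        Φ.toAlg.xg q ((c : K) * d) := by
      calc _ = (Φ.toAlg.xg b e)⁻¹ * (Φ.toAlg.xg a d)⁻¹ * T⁻¹ * Φ.toAlg.xg a d *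
            (Φ.toAlg.xg b e * T) := by group
        _ = (Φ.toAlg.xg b e)⁻¹ * (Φ.toAlg.xg a d)⁻¹ * T⁻¹ * (Φ.toAlg.xg a d * T) *
            Φ.toAlg.xg b e := by rw [h1]; group
        _ = (Φ.toAlg.xg b e)⁻¹ * (Φ.toAlg.xg q ((c : K) * d) * Φ.toAlg.xg b e) := by rw [h2]; group
        _ = _ := by rw [(hqbc _ _).eq]; group
    rw [← h4]
    exact mul_mem (mul_mem (mul_mem (inv_mem hw) (inv_mem hT)) hw) hT
  have hd : σ d = d := by
    by_contra hne
    exact sigma_smul hc (map_intCast σ c) hne (hnoroot _ _ h3)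
  exact ⟨hd, hnoroot b e ((H.mul_mem_cancel_left (hrat (Φ.xg_mem_ratE σ hd))).1 hw)⟩

end Chev

end CfsgLib.Chev
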