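/-
The facts used for the maximality of subfield subgroups, type by type.
-/
import Cfsg.Agent.Lib.Chev.SubfieldMax.Roots
import Mathlib.Algebra.CharP.Two
import Mathlib.Data.Set.Card

set_option autoImplicit false
set_option linter.dupNamespace false
set_option linter.unusedSectionVars false
set_option linter.unusedSimpArgs false
set_option maxRecDepth 100000
set_option maxHeartbeats 2000000

namespace CfsgLib.Chev

open Cfsg.Lie Matrix

/-- The pairing of the coroot of `r` with the root `s`. -/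
def prSN (D : ChevalleyDatum) (r s : ℕ) : ℤ :=
  ((List.range D.rank).map fun i => (D.coroot.getD r #[]).getD i 0 * D.cartan i s).sum

/-- The properties of the root `h`: long, dominant and central in `U`; `g` is strongly orthogonal
to it. -/
def highCert (D : ChevalleyDatum) (h g : ℕ) : Bool :=
  let nh := D.neg h
  decide (h < D.nroots) && decide (D.nroots ≤ 2 * h) && decide (g < D.nroots) && decide (g ≠ h) &&
    decide (g ≠ nh) && decide (prSN D h g = 0) &&
  ((List.range D.rank).all fun i => decide (0 ≤ D.cartan i h)) &&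
  (List.range D.nroots).all fun s => decide (s = h) || decide (s = nh) ||
    (decide (prSN D s h ≠ 4) &&
      (decide (2 * s < D.nroots) || ((D.commTerms h s).isEmpty && decide (0 ≤ prSN D h s))) &&
      (decide (prSN D h s = 1) || decide (prSN D h s = -1) ||
        (decide (prSN D h s = 0) && (D.commTerms h s).isEmpty && (D.commTerms nh s).isEmpty)))

/-- A second class of involutions: two commuting fundamental roots, or a fundamental root outside
a set of roots invariant under the Weyl group and containing `h`. -/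
def invCert (D : ChevalleyDatum) (h a c : ℕ) (L : List ℕ) : Bool :=
  decide (a < D.rank) && decide (c < D.rank) &&
    ((decide (a ≠ c) && (D.commTerms (D.simple a) (D.simple c)).isEmpty) ||
      (decide (a = c) && L.contains h && !(L.contains (D.simple a)) &&
        L.all fun s => (List.range D.rank).all fun i => L.contains (D.reflectRoot i s)))

/-- An irrational root element generates with the rational points the whole group. -/
def RootFact {D : ChevalleyDatum} (Φ : Chev D) (K : Type*) [Field K] (σ : K ≃+* K) : Prop :=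
  ∀ H : Subgroup (GL D.Idx K), Finite H → Φ.ratE σ ≤ H →
    ∀ (r : Fin D.nroots) (t : K), Φ.toAlg.xg r t ∈ H → σ t ≠ t →
      ∃ L : Subring K, Chev.IrrField σ L ∧ ∀ r, ∀ x ∈ L, Φ.toAlg.xg r x ∈ H

/-- An overgroup without irrational root elements meets `U` in rational points. -/
def UnipFact {D : ChevalleyDatum} (Φ : Chev D) (K : Type*) [Field K] (σ : K ≃+* K) : Prop :=
  ∀ H : Subgroup (GL D.Idx K), Finite H → Φ.ratE σ ≤ H →
    (∀ (r : Fin D.nroots) (t : K), Φ.toAlg.xg r t ∈ H → σ t = t) →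
    ∀ u ∈ H, u ∈ D.posUnipotent K → u ∈ Chev.ratG σ

/-- The data of one type. -/
structure SubfieldData {D : ChevalleyDatum} (Φ : Chev D) (K : Type*) [Field K] (σ : K ≃+* K) :
    Prop where
  span : Chev.spanCert D = true
  high : ∃ h g, highCert D h g = true ∧ ∃ a c L, invCert D h a c L = true
  root : RootFact Φ K σ
  unip : UnipFact Φ K σ
  cen : Φ.CenFact K

/-- None of the roots of `L` is fundamental. -/
def simpleCert (D : ChevalleyDatum) (L : List ℕ) : Bool :=
  L.all fun r => (List.range D.rank).all fun i => decide (r ≠ D.simple i)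

namespace Chev

variable {D : ChevalleyDatum} (Φ : Chev D) {K : Type*} [Field K] {σ : K ≃+* K}

theorem cenFact_of_simpleCert {z nz : ℤ → Bool} {L : List ℕ} (hok : centralCert D z nz L = true)
    (hz : ∀ c, z c = true → (c : K) = 0) (hnz : ∀ c, nz c = true → (c : K) ≠ 0)
    (hL : simpleCert D L = true) : Φ.CenFact K := by
  refine Φ.cenFact_of_cert hok hz hnz fun r hr i => ?_
  simp only [simpleCert, List.all_eq_true, List.mem_range, decide_eq_true_eq] at hL
  rw [← Φ.simple_val i]
  exact hL r hr i.val i.isLt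

theorem cast_ne_five (p : ℕ) [Fact p.Prime] [CharP K p] (h2 : p ≠ 2) (h3 : p ≠ 3) {c : ℤ}
    (h0 : c ≠ 0) (h5 : c.natAbs < 5) : (c : K) ≠ 0 := by
  intro h
  rw [CharP.intCast_eq_zero_iff K p] at h
  have hp : p.Prime := Fact.out
  have h4 : p ∣ c.natAbs := by simpa using Int.natAbs_dvd_natAbs.2 h
  have hup := Nat.le_of_dvd (Int.natAbs_pos.2 h0) h4
  have hlo := hp.two_le
  have hlt : p < 5 := by omega
  interval_cases p <;> first | omega | exact absurd hp (by norm_num)

theorem cast_ne_unit {c : ℤ} (h : c = 1 ∨ c = -1) : (c : K) ≠ 0 := by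
  rcases h with rfl | rfl <;> simp

/-- The unipotent fact when only `h` is central. -/
theorem unip_single (p : ℕ) [Fact p.Prime] [CharP K p] {z nz : ℤ → Bool}
    (h : Fin D.nroots) (hok : centralCert D z nz [h.val] = true)
    (hz : ∀ c, z c = true → (c : K) = 0) (hnz : ∀ c, nz c = true → (c : K) ≠ 0) :
    UnipFact Φ K σ := by
  intro H hfin hrat hroot u huH huU
  refine Φ.unipotent_rat p σ hrat hok hz hnz (fun c hcH hc => ?_) huH huU
  obtain ⟨t, rfl⟩ : ∃ t, c = Φ.toAlg.xg h t := by
    have hle : Φ.US K (fun r => Φ.toTables.Pos r ∧ r.val ∈ [h.val]) ≤ D.rootSubgroup K h.val := by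
      rw [US, Subgroup.closure_le]
      rintro _ ⟨r, t, ⟨-, hr⟩, rfl⟩
      rw [List.mem_singleton] at hr
      rw [show r = h from Fin.ext hr]
      exact Φ.toAlg.mem_rootSubgroup.2 ⟨t, rfl⟩
    obtain ⟨t, ht⟩ := Φ.toAlg.mem_rootSubgroup.1 (hle hc)
    exact ⟨t, ht.symm⟩
  exact Φ.xg_mem_ratG σ (hroot h t hcH)

theorem exists_two {a b : Fin D.nroots} {z nz : ℤ → Bool} (hpa : Φ.toTables.Pos a)
    (hpb : Φ.toTables.Pos b) (hok : centralCert D z nz [a.val, b.val] = true)
    (hz : ∀ c, z c = true → (c : K) = 0) {c : GL D.Idx K}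
    (hc : c ∈ Φ.US K (fun r => Φ.toTables.Pos r ∧ r.val ∈ [a.val, b.val])) :
    ∃ d e, c = Φ.toAlg.xg a d * Φ.toAlg.xg b e := by
  have hcm : ∀ (d e : K), Commute (Φ.toAlg.xg b e) (Φ.toAlg.xg a d) := fun d e =>
    Φ.commute_central hok hz hpb (by simp) e (Φ.xg_mem_US (F := K) hpa d)
  induction hc using Subgroup.closure_induction with
  | mem y hy =>
    obtain ⟨r, t, ⟨-, hr⟩, rfl⟩ := hy
    simp only [List.mem_cons, List.not_mem_nil, or_false] at hr
    rcases hr with hr | hr
    · exact ⟨t, 0, by rw [show r = a from Fin.ext hr, Φ.toAlg.xg_zero, mul_one]⟩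
    · exact ⟨0, t, by rw [show r = b from Fin.ext hr, Φ.toAlg.xg_zero, one_mul]⟩
  | one => exact ⟨0, 0, by simp⟩
  | mul x y _ _ hx hy =>
    obtain ⟨d, e, rfl⟩ := hx
    obtain ⟨d', e', rfl⟩ := hy
    refine ⟨d + d', e + e', ?_⟩
    rw [Φ.toAlg.xg_add, Φ.toAlg.xg_add]
    calc _ = Φ.toAlg.xg a d * (Φ.toAlg.xg b e * Φ.toAlg.xg a d') * Φ.toAlg.xg b e' := by group
      _ = _ := by rw [(hcm d' e).eq]; group
  | inv x _ hx =>
    obtain ⟨d, e, rfl⟩ := hx
    refine ⟨-d, -e, ?_⟩
    rw [← Φ.toAlg.xg_inv, ← Φ.toAlg.xg_inv, _root_.mul_inv_rev]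
    exact (hcm d e).inv_inv.eq

end Chev

/-- Divisibility by `n` as a test. -/
def zmodTest (n : ℤ) (c : ℤ) : Bool := c % n == 0

/-- The three tests used for the characteristics two, three and at least five. -/
theorem exists_test {K : Type*} [Field K] (p : ℕ) [Fact p.Prime] [CharP K p] :
    (p = 2 ∧ (∀ c : ℤ, zmodTest 2 c = true → (c : K) = 0) ∧ ∀ c : ℤ, (!zmodTest 2 c) = true → (c : K) ≠ 0) ∨
    (p = 3 ∧ (∀ c : ℤ, zmodTest 3 c = true → (c : K) = 0) ∧ ∀ c : ℤ, (!zmodTest 3 c) = true → (c : K) ≠ 0) ∨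
    ((p ≠ 2 ∧ p ≠ 3) ∧ (∀ c : ℤ, (c == 0) = true → (c : K) = 0) ∧
      ∀ c : ℤ, (!(c == 0) && Nat.blt c.natAbs 5) = true → (c : K) ≠ 0) := by
  have key : ∀ c : ℤ, (c : K) = 0 ↔ c % (p : ℤ) = 0 := fun c => by
    rw [CharP.intCast_eq_zero_iff K p, Int.dvd_iff_emod_eq_zero]
  by_cases h2 : p = 2
  · subst h2
    refine Or.inl ⟨rfl, fun c h => (key c).2 (by simpa [zmodTest] using h), fun c h => ?_⟩
    rw [Ne, key]; simpa [zmodTest] using h
  by_cases h3 : p = 3
  · subst h3
    refine Or.inr (Or.inl ⟨rfl, fun c h => (key c).2 (by simpa [zmodTest] using h), fun c h => ?_⟩)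
    rw [Ne, key]; simpa [zmodTest] using h
  refine Or.inr (Or.inr ⟨⟨h2, h3⟩, fun c h => by simp at h; simp [h], fun c h => ?_⟩)
  simp at h
  exact Chev.cast_ne_five p h2 h3 h.1 h.2

section types

variable {K : Type*} [Field K] {σ : K ≃+* K}

open Chev (rt)

/-- The root fact for the simply laced types. -/
theorem rootFact_single {D : ChevalleyDatum} (Φ : Chev D) (i k : Fin D.rank) {c : ℤ}
    (hc : c = 1 ∨ c = -1) {n : ℕ}
    (hterms : D.commTerms (D.simple i.val) (D.simple k.val) = [(n, c, 1, 1)])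
    (hq : D.reflectRoot i.val (D.simple k.val) = n) (hne : k ≠ i)
    (hk : k.val ∈ reachN D i.val D.rank) (hreach : reachCert D i.val i.val = true) :
    RootFact Φ K σ := fun H hfin hrat _ _ ht hσ =>
  Φ.big_of_long hrat i i hreach (Or.inl rfl)
    (Φ.long_top hrat i k hc hterms hq hne hk) id ht hσ

variable (p : ℕ) [Fact p.Prime] [CharP K p]

include p in
theorem unipFact_all {D : ChevalleyDatum} (Φ : Chev D) (h : Fin D.nroots)
    (h2 : centralCert D (zmodTest 2) (fun c => !zmodTest 2 c) [h.val] = true)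
    (h3 : centralCert D (zmodTest 3) (fun c => !zmodTest 3 c) [h.val] = true)
    (h5 : centralCert D (fun c => c == 0) (fun c => !(c == 0) && Nat.blt c.natAbs 5) [h.val] = true) :
    UnipFact Φ K σ := by
  rcases exists_test (K := K) p with ⟨-, hz, hnz⟩ | ⟨-, hz, hnz⟩ | ⟨-, hz, hnz⟩
  exacts [Φ.unip_single p h h2 hz hnz, Φ.unip_single p h h3 hz hnz, Φ.unip_single p h h5 hz hnz]

include p in
theorem cenFact_all {D : ChevalleyDatum} (Φ : Chev D) (h : Fin D.nroots)
    (h2 : centralCert D (zmodTest 2) (fun c => !zmodTest 2 c) [h.val] = true)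
    (h3 : centralCert D (zmodTest 3) (fun c => !zmodTest 3 c) [h.val] = true)
    (h5 : centralCert D (fun c => c == 0) (fun c => !(c == 0) && Nat.blt c.natAbs 5) [h.val] = true)
    (hL : simpleCert D [h.val] = true) :
    Φ.CenFact K := by
  rcases exists_test (K := K) p with ⟨-, hz, hnz⟩ | ⟨-, hz, hnz⟩ | ⟨-, hz, hnz⟩
  exacts [Φ.cenFact_of_simpleCert h2 hz hnz hL, Φ.cenFact_of_simpleCert h3 hz hnz hL,
    Φ.cenFact_of_simpleCert h5 hz hnz hL]

include p in
theorem subfieldData_D4 : SubfieldData chevD4 K σ where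
  span := by decide +kernel
  high := ⟨23, 18, by decide +kernel, 0, 2, [], by decide +kernel⟩
  root := rootFact_single chevD4 ⟨0, by decide⟩ ⟨1, by decide⟩ (c := -1) (Or.inr rfl) (n := 19)
    (by decide +kernel) (by decide +kernel) (by decide) (by decide +kernel) (by decide +kernel)
  unip := unipFact_all p chevD4 (rt _ 23) (by decide +kernel) (by decide +kernel) (by decide +kernel)
  cen := cenFact_all p chevD4 (rt _ 23) (by decide +kernel) (by decide +kernel) (by decide +kernel) (by decide +kernel)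

include p in
theorem subfieldData_E6 : SubfieldData chevE6 K σ where
  span := by decide +kernel
  high := ⟨71, 56, by decide +kernel, 0, 1, [], by decide +kernel⟩
  root := rootFact_single chevE6 ⟨0, by decide⟩ ⟨2, by decide⟩ (c := -1) (Or.inr rfl) (n := 57)
    (by decide +kernel) (by decide +kernel) (by decide) (by decide +kernel) (by decide +kernel)
  unip := unipFact_all p chevE6 (rt _ 71) (by decide +kernel) (by decide +kernel) (by decide +kernel)
  cen := cenFact_all p chevE6 (rt _ 71) (by decide +kernel) (by decide +kernel) (by decide +kernel) (by decide +kernel)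

include p in
theorem subfieldData_E7 : SubfieldData chevE7 K σ where
  span := by decide +kernel
  high := ⟨125, 78, by decide +kernel, 0, 1, [], by decide +kernel⟩
  root := rootFact_single chevE7 ⟨0, by decide⟩ ⟨2, by decide⟩ (c := -1) (Or.inr rfl) (n := 94)
    (by decide +kernel) (by decide +kernel) (by decide) (by decide +kernel) (by decide +kernel)
  unip := unipFact_all p chevE7 (rt _ 125) (by decide +kernel) (by decide +kernel) (by decide +kernel)
  cen := cenFact_all p chevE7 (rt _ 125) (by decide +kernel) (by decide +kernel) (by decide +kernel) (by decide +kernel)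

include p in
theorem subfieldData_E8 : SubfieldData chevE8 K σ where
  span := by decide +kernel
  high := ⟨239, 162, by decide +kernel, 0, 1, [], by decide +kernel⟩
  root := rootFact_single chevE8 ⟨0, by decide⟩ ⟨2, by decide⟩ (c := -1) (Or.inr rfl) (n := 163)
    (by decide +kernel) (by decide +kernel) (by decide) (by decide +kernel) (by decide +kernel)
  unip := unipFact_all p chevE8 (rt _ 239) (by decide +kernel) (by decide +kernel) (by decide +kernel)
  cen := cenFact_all p chevE8 (rt _ 239) (by decide +kernel) (by decide +kernel) (by decide +kernel) (by decide +kernel)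

include p in
theorem rootFact_F4 : RootFact chevF4 K σ := by
  intro H hfin hrat r t ht hσ
  set Φ := chevF4
  refine Φ.big_of_long hrat ⟨2, by decide⟩ ⟨1, by decide⟩ (by decide +kernel)
    (Or.inr (by decide +kernel))
    (Φ.long_top hrat _ ⟨3, by decide⟩ (c := -1) (Or.inr rfl) (n := 26) (by decide +kernel)
      (by decide +kernel) (by decide) (by decide +kernel)) ?_ ht hσ
  intro hj
  have e25 : Φ.p ⟨2, by decide⟩ = rt Cfsg.Lie.chevF4 25 := Φ.p_eq (by decide +kernel)
  have e27 : Φ.p ⟨1, by decide⟩ = rt Cfsg.Lie.chevF4 27 := Φ.p_eq (by decide +kernel)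
  rw [e27] at hj
  rw [e25]
  have h30 := Φ.par_chain hrat (r := rt Cfsg.Lie.chevF4 25) (q := rt Cfsg.Lie.chevF4 30) [1] (by decide +kernel) (by decide +kernel)
  have h28 := Φ.par_chain hrat (r := rt Cfsg.Lie.chevF4 27) (q := rt Cfsg.Lie.chevF4 28) [2] (by decide +kernel) (by decide +kernel)
  by_cases hp : p = 2
  · subst hp
    exact Φ.short_to_long_sq hrat (r := rt Cfsg.Lie.chevF4 25) (q1 := rt Cfsg.Lie.chevF4 28) (q2 := rt Cfsg.Lie.chevF4 30)
      (by decide +kernel) (by decide +kernel) (c1 := 1) (Or.inl rfl) (c2 := -1) (Or.inr rfl)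
      (by decide +kernel) h28 h30 hj
  · refine Φ.short_to_long_single hrat (s := rt Cfsg.Lie.chevF4 28) (q := rt Cfsg.Lie.chevF4 30) (by decide +kernel)
      (by decide +kernel) (c := 2) ?_ (by decide +kernel) h28 h30 hj
    have : (2 : K) ≠ 0 := Ring.two_ne_zero (by rwa [ringChar.eq K p])
    exact_mod_cast this

include p in
theorem rootFact_G2 : RootFact chevG2 K σ := by
  intro H hfin hrat r t ht hσ
  set Φ := chevG2
  have e6 : Φ.p ⟨1, by decide⟩ = rt Cfsg.Lie.chevG2 6 := Φ.p_eq (by decide +kernel)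
  have e7 : Φ.p ⟨0, by decide⟩ = rt Cfsg.Lie.chevG2 7 := Φ.p_eq (by decide +kernel)
  have h10 := Φ.par_chain hrat (r := rt Cfsg.Lie.chevG2 6) (q := rt Cfsg.Lie.chevG2 10) [0] (by decide +kernel) (by decide +kernel)
  have h11 := Φ.par_chain hrat (r := rt Cfsg.Lie.chevG2 6) (q := rt Cfsg.Lie.chevG2 11) [1, 0] (by decide +kernel) (by decide +kernel)
  have h8 := Φ.par_chain hrat (r := rt Cfsg.Lie.chevG2 7) (q := rt Cfsg.Lie.chevG2 8) [1] (by decide +kernel) (by decide +kernel)
  have h9 := Φ.par_chain hrat (r := rt Cfsg.Lie.chevG2 7) (q := rt Cfsg.Lie.chevG2 9) [0, 1] (by decide +kernel) (by decide +kernel)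
  refine Φ.big_of_long hrat ⟨1, by decide⟩ ⟨0, by decide⟩ (by decide +kernel)
    (Or.inr (by decide +kernel)) ?_ ?_ ht hσ
  · rw [e6]
    refine Φ.par_big_of_mul hrat fun a b ha hb => ?_
    have h := Φ.tval_mem (r := rt Cfsg.Lie.chevG2 6) (s := rt Cfsg.Lie.chevG2 10) (by decide +kernel) (by decide +kernel)
      (t := a) ha (u := b) (by rw [← Chev.mem_par, h10]; exact hb)
    rw [show Cfsg.Lie.chevG2.commTerms (rt Cfsg.Lie.chevG2 6).val (rt Cfsg.Lie.chevG2 10).val = [(11, 1, 1, 1)] by decide +kernel,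
      Φ.tval_single (by decide +kernel)] at h
    push_cast at h
    have h2 := (Φ.par H (rt Cfsg.Lie.chevG2 11)).neg_mem h
    rw [h11] at h2
    simpa using h2
  · rw [e6, e7]
    intro hj
    by_cases hp : p = 3
    · subst hp
      obtain ⟨u, hu, hσu⟩ := hj
      have h := Φ.tval_mem (r := rt Cfsg.Lie.chevG2 6) (s := rt Cfsg.Lie.chevG2 7) (by decide +kernel) (by decide +kernel)
        (t := (1 : K)) (Φ.fixed_mem_par hrat _ (map_one σ)) (u := u) hu
      rw [show Cfsg.Lie.chevG2.commTerms (rt Cfsg.Lie.chevG2 6).val (rt Cfsg.Lie.chevG2 7).val =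
          [(8, 1, 1, 1), (9, 1, 1, 2), (10, -1, 1, 3), (11, -2, 2, 3)] by decide +kernel,
        Φ.tval_cons (by decide +kernel), Φ.tval_cons (by decide +kernel),
        Φ.tval_cons (by decide +kernel), Φ.tval_single (by decide +kernel)] at h
      push_cast at h
      simp only [pow_one, one_mul, neg_one_mul, neg_one_sq, mul_one, neg_neg] at h
      have hA : Φ.toAlg.xg (rt Cfsg.Lie.chevG2 8) (-u) ∈ H :=
        (h8 ▸ (Φ.par H _).neg_mem hu : -u ∈ Φ.par H (rt Cfsg.Lie.chevG2 8))
      have hE := (H.mul_mem_cancel_left hA).1 h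
      set v := u ^ 3
      set E := Φ.toAlg.xg (rt Cfsg.Lie.chevG2 9) (-u ^ 2) * (Φ.toAlg.xg (rt Cfsg.Lie.chevG2 10) v *
        Φ.toAlg.xg (rt Cfsg.Lie.chevG2 11) (-2 * v)) with hEdef
      set T := Φ.toAlg.xg (rt Cfsg.Lie.chevG2 6) (1 : K)
      have hT : T ∈ H := hrat (Φ.xg_mem_ratE σ (map_one σ))
      have c9 : Φ.toAlg.xg (rt Cfsg.Lie.chevG2 9) (-u ^ 2) * T = T * Φ.toAlg.xg (rt Cfsg.Lie.chevG2 9) (-u ^ 2) := by
        rw [Φ.comm_xg (by decide +kernel) (by decide +kernel),
          show Cfsg.Lie.chevG2.commTerms (rt Cfsg.Lie.chevG2 6).val (rt Cfsg.Lie.chevG2 9).val = [] by decide +kernel]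
        simp [Chev.tval, T]
      have c11 : ∀ w, Φ.toAlg.xg (rt Cfsg.Lie.chevG2 11) w * T = T * Φ.toAlg.xg (rt Cfsg.Lie.chevG2 11) w := fun w => by
        rw [Φ.comm_xg (by decide +kernel) (by decide +kernel),
          show Cfsg.Lie.chevG2.commTerms (rt Cfsg.Lie.chevG2 6).val (rt Cfsg.Lie.chevG2 11).val = [] by decide +kernel]
        simp [Chev.tval, T]
      have c10 : Φ.toAlg.xg (rt Cfsg.Lie.chevG2 10) v * T =
          T * Φ.toAlg.xg (rt Cfsg.Lie.chevG2 10) v * Φ.toAlg.xg (rt Cfsg.Lie.chevG2 11) (-v) := by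
        rw [Φ.comm_xg (by decide +kernel) (by decide +kernel),
          show Cfsg.Lie.chevG2.commTerms (rt Cfsg.Lie.chevG2 6).val (rt Cfsg.Lie.chevG2 10).val = [(11, 1, 1, 1)] by decide +kernel,
          Φ.tval_single (by decide +kernel)]
        push_cast
        simp [T]
      have key : E⁻¹ * T⁻¹ * E * T = Φ.toAlg.xg (rt Cfsg.Lie.chevG2 11) (-v) := by
        rw [hEdef]
        calc _ = (Φ.toAlg.xg (rt Cfsg.Lie.chevG2 11) (-2 * v))⁻¹ * (Φ.toAlg.xg (rt Cfsg.Lie.chevG2 10) v)⁻¹ *
              (Φ.toAlg.xg (rt Cfsg.Lie.chevG2 9) (-u ^ 2))⁻¹ * T⁻¹ * Φ.toAlg.xg (rt Cfsg.Lie.chevG2 9) (-u ^ 2) *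
              Φ.toAlg.xg (rt Cfsg.Lie.chevG2 10) v * (Φ.toAlg.xg (rt Cfsg.Lie.chevG2 11) (-2 * v) * T) := by group
          _ = (Φ.toAlg.xg (rt Cfsg.Lie.chevG2 11) (-2 * v))⁻¹ * (Φ.toAlg.xg (rt Cfsg.Lie.chevG2 10) v)⁻¹ *
              (Φ.toAlg.xg (rt Cfsg.Lie.chevG2 9) (-u ^ 2))⁻¹ * T⁻¹ * Φ.toAlg.xg (rt Cfsg.Lie.chevG2 9) (-u ^ 2) *
              (Φ.toAlg.xg (rt Cfsg.Lie.chevG2 10) v * T) * Φ.toAlg.xg (rt Cfsg.Lie.chevG2 11) (-2 * v) := by
            rw [c11]; group
          _ = (Φ.toAlg.xg (rt Cfsg.Lie.chevG2 11) (-2 * v))⁻¹ * (Φ.toAlg.xg (rt Cfsg.Lie.chevG2 10) v)⁻¹ *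
              (Φ.toAlg.xg (rt Cfsg.Lie.chevG2 9) (-u ^ 2))⁻¹ * T⁻¹ * (Φ.toAlg.xg (rt Cfsg.Lie.chevG2 9) (-u ^ 2) * T) *
              Φ.toAlg.xg (rt Cfsg.Lie.chevG2 10) v * Φ.toAlg.xg (rt Cfsg.Lie.chevG2 11) (-v) *
              Φ.toAlg.xg (rt Cfsg.Lie.chevG2 11) (-2 * v) := by rw [c10]; group
          _ = (Φ.toAlg.xg (rt Cfsg.Lie.chevG2 11) (-2 * v))⁻¹ * (Φ.toAlg.xg (rt Cfsg.Lie.chevG2 11) (-v) *
              Φ.toAlg.xg (rt Cfsg.Lie.chevG2 11) (-2 * v)) := by rw [c9]; group
          _ = _ := by rw [← Φ.toAlg.xg_add, ← Φ.toAlg.xg_neg, ← Φ.toAlg.xg_add]; congr 1; ring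
      refine ⟨-v, h11 ▸ (show Φ.toAlg.xg (rt Cfsg.Lie.chevG2 11) (-v) ∈ H from key ▸
        mul_mem (mul_mem (mul_mem (inv_mem hE) (inv_mem hT)) hE) hT), fun e => ?_⟩
      rw [map_neg, neg_inj] at e
      exact Chev.sigma_pow 3 hσu e
    · refine Φ.short_to_long_single hrat (s := rt Cfsg.Lie.chevG2 9) (q := rt Cfsg.Lie.chevG2 10) (by decide +kernel)
        (by decide +kernel) (c := 3) ?_ (by decide +kernel) h9 h10 hj
      rw [Ne, CharP.intCast_eq_zero_iff K p]
      have hp' : p.Prime := Fact.out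
      exact fun h => hp ((Nat.prime_dvd_prime_iff_eq hp' Nat.prime_three).1 (by exact_mod_cast h))

include p in
theorem subfieldData_G2 : SubfieldData chevG2 K σ where
  span := by decide +kernel
  high := ⟨11, 7, by decide +kernel, 0, 0, [0, 1, 5, 6, 10, 11], by decide +kernel⟩
  root := rootFact_G2 p
  unip := by
    intro H hfin hrat hroot
    rcases exists_test (K := K) p with ⟨-, hz, hnz⟩ | ⟨rfl, hz, hnz⟩ | ⟨-, hz, hnz⟩
    · exact chevG2.unip_single p (rt _ 11) (by decide +kernel) hz hnz H hfin hrat hroot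
    · intro u huH huU
      have hok : centralCert Cfsg.Lie.chevG2 (zmodTest 3) (fun c => !zmodTest 3 c)
          [(rt Cfsg.Lie.chevG2 9).val, (rt Cfsg.Lie.chevG2 11).val] = true := by decide +kernel
      have hp11 : (chevG2).toTables.Pos (rt Cfsg.Lie.chevG2 11) := by
        unfold Tables.Pos; decide +kernel
      have hp9 : (chevG2).toTables.Pos (rt Cfsg.Lie.chevG2 9) := by
        unfold Tables.Pos; decide +kernel
      have hp8 : (chevG2).toTables.Pos (rt Cfsg.Lie.chevG2 8) := by
        unfold Tables.Pos; decide +kernel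
      have hcomm : ∀ u v : K, Commute (chevG2.toAlg.xg (rt Cfsg.Lie.chevG2 8) u)
          (chevG2.toAlg.xg (rt Cfsg.Lie.chevG2 11) v) := fun u v =>
        (chevG2.commute_central hok hz (r := rt Cfsg.Lie.chevG2 11) hp11 (by decide +kernel) v
          (chevG2.xg_mem_US (F := K) hp8 u)).symm
      refine chevG2.unipotent_rat 3 σ hrat hok hz hnz (fun c hcH hc => ?_) huH huU
      obtain ⟨d, e, rfl⟩ := chevG2.exists_two hp9 hp11 hok hz hc
      obtain ⟨hd, he⟩ := chevG2.sep_central hrat (r := rt Cfsg.Lie.chevG2 4) (q := rt Cfsg.Lie.chevG2 8)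
        (by decide +kernel) (by decide +kernel) (by decide +kernel) (by decide +kernel)
        (by rw [show Cfsg.Lie.chevG2.commTerms (rt Cfsg.Lie.chevG2 4).val (rt Cfsg.Lie.chevG2 11).val = [] by decide +kernel]; simp)
        (c := 2) (by rw [Ne, CharP.intCast_eq_zero_iff K 3]; decide) (fun d => by
          rw [show Cfsg.Lie.chevG2.commTerms (rt Cfsg.Lie.chevG2 4).val (rt Cfsg.Lie.chevG2 9).val =
              [(8, -2, 1, 1), (6, 3, 2, 1), (11, -3, 1, 2)] by decide +kernel,
            chevG2.tval_cons (by decide +kernel),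
            chevG2.tval_eq_one_of_zero (M := [(6, 3, 2, 1), (11, -3, 1, 2)]) (by
              intro c hc
              apply hz
              simp only [List.mem_cons, List.not_mem_nil, or_false] at hc
              rcases hc with rfl | rfl <;> decide), mul_one]
          congr 1
          push_cast
          ring)
        (fun u v => hcomm u v)
        hroot hcH
      exact mul_mem (chevG2.xg_mem_ratG σ hd) (chevG2.xg_mem_ratG σ he)
    · exact chevG2.unip_single p (rt _ 11) (by decide +kernel) hz hnz H hfin hrat hroot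
  cen := by
    rcases exists_test (K := K) p with ⟨-, hz, hnz⟩ | ⟨-, hz, hnz⟩ | ⟨-, hz, hnz⟩
    exacts [chevG2.cenFact_of_simpleCert (L := [11]) (by decide +kernel) hz hnz (by decide +kernel),
      chevG2.cenFact_of_simpleCert (L := [9, 11]) (by decide +kernel) hz hnz (by decide +kernel),
      chevG2.cenFact_of_simpleCert (L := [11]) (by decide +kernel) hz hnz (by decide +kernel)]

include p in
theorem subfieldData_F4 : SubfieldData chevF4 K σ where
  span := by decide +kernel
  high := ⟨47, 33, by decide +kernel, 0, 2, [], by decide +kernel⟩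
  root := rootFact_F4 p
  unip := by
    intro H hfin hrat hroot
    rcases exists_test (K := K) p with ⟨rfl, hz, hnz⟩ | ⟨-, hz, hnz⟩ | ⟨-, hz, hnz⟩
    · intro u huH huU
      have hok : centralCert Cfsg.Lie.chevF4 (zmodTest 2) (fun c => !zmodTest 2 c)
          [(rt Cfsg.Lie.chevF4 44).val, (rt Cfsg.Lie.chevF4 47).val] = true := by decide +kernel
      have hp47 : (chevF4).toTables.Pos (rt Cfsg.Lie.chevF4 47) := by
        unfold Tables.Pos; decide +kernel
      have hp44 : (chevF4).toTables.Pos (rt Cfsg.Lie.chevF4 44) := by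
        unfold Tables.Pos; decide +kernel
      have hp36 : (chevF4).toTables.Pos (rt Cfsg.Lie.chevF4 36) := by
        unfold Tables.Pos; decide +kernel
      have hcomm : ∀ u v : K, Commute (chevF4.toAlg.xg (rt Cfsg.Lie.chevF4 36) u)
          (chevF4.toAlg.xg (rt Cfsg.Lie.chevF4 47) v) := fun u v =>
        (chevF4.commute_central hok hz (r := rt Cfsg.Lie.chevF4 47) hp47 (by decide +kernel) v
          (chevF4.xg_mem_US (F := K) hp36 u)).symm
      refine chevF4.unipotent_rat 2 σ hrat hok hz hnz (fun c hcH hc => ?_) huH huU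
      obtain ⟨d, e, rfl⟩ := chevF4.exists_two hp44 hp47 hok hz hc
      obtain ⟨hd, he⟩ := chevF4.sep_central hrat (r := rt Cfsg.Lie.chevF4 10) (q := rt Cfsg.Lie.chevF4 36)
        (by decide +kernel) (by decide +kernel) (by decide +kernel) (by decide +kernel)
        (by
          intro c hc
          refine hz _ (List.all_eq_true.1 (show ((Cfsg.Lie.chevF4.commTerms (rt Cfsg.Lie.chevF4 10).val
            (rt Cfsg.Lie.chevF4 47).val).all fun c => zmodTest 2 c.2.1) = true by decide +kernel) c hc))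
        (c := 1) (by simp) (fun d => by
          rw [show Cfsg.Lie.chevF4.commTerms (rt Cfsg.Lie.chevF4 10).val (rt Cfsg.Lie.chevF4 44).val = [(36, -1, 1, 1)] by
            decide +kernel, chevF4.tval_single (by decide +kernel)]
          congr 1
          push_cast
          ring)
        (fun u v => hcomm u v)
        hroot hcH
      exact mul_mem (chevF4.xg_mem_ratG σ hd) (chevF4.xg_mem_ratG σ he)
    · exact chevF4.unip_single p (rt _ 47) (by decide +kernel) hz hnz H hfin hrat hroot
    · exact chevF4.unip_single p (rt _ 47) (by decide +kernel) hz hnz H hfin hrat hroot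
  cen := by
    rcases exists_test (K := K) p with ⟨-, hz, hnz⟩ | ⟨-, hz, hnz⟩ | ⟨-, hz, hnz⟩
    exacts [chevF4.cenFact_of_simpleCert (L := [44, 47]) (by decide +kernel) hz hnz (by decide +kernel),
      chevF4.cenFact_of_simpleCert (L := [47]) (by decide +kernel) hz hnz (by decide +kernel),
      chevF4.cenFact_of_simpleCert (L := [47]) (by decide +kernel) hz hnz (by decide +kernel)]

end types

end CfsgLib.Chev
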