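/-
Overgroups of the rational points in type B2.
-/
import Cfsg.Agent.Lib.Chev.SubfieldMax.Types

set_option autoImplicit false
set_option linter.dupNamespace false
set_option linter.unusedSectionVars false
set_option linter.unusedSimpArgs false
set_option maxRecDepth 100000
set_option maxHeartbeats 1000000

namespace CfsgLib.Chev

open Cfsg.Lie Matrix
open Chev (rt)

namespace B2Sub

variable {K : Type*} [Field K] {σ : K ≃+* K} {H : Subgroup (GL Cfsg.Lie.chevB2.Idx K)}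

local notation "Φ" => CfsgLib.Chev.chevB2
local notation:max "𝕩" n:max => Alg.xg (Chev.toAlg CfsgLib.Chev.chevB2) (rt Cfsg.Lie.chevB2 n)

theorem refl_eq (i : Fin Cfsg.Lie.chevB2.rank) (r q : Fin Cfsg.Lie.chevB2.nroots)
    (h : Cfsg.Lie.chevB2.reflectRoot i.val r.val = q.val) : (Φ).refl i r = q :=
  Fin.ext (((Φ).reflectRoot_eq i r).symm.trans h)

theorem refl0 : (Φ).refl ⟨0, by decide⟩ (rt _ 6) = rt _ 6 ∧
    (Φ).refl ⟨0, by decide⟩ (rt _ 7) = rt _ 4 ∧ (Φ).refl ⟨0, by decide⟩ (rt _ 4) = rt _ 7 ∧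
    (Φ).refl ⟨0, by decide⟩ (rt _ 5) = rt _ 2 :=
  ⟨refl_eq _ _ _ (by decide +kernel), refl_eq _ _ _ (by decide +kernel),
    refl_eq _ _ _ (by decide +kernel), refl_eq _ _ _ (by decide +kernel)⟩

theorem refl1 : (Φ).refl ⟨1, by decide⟩ (rt _ 6) = rt _ 5 ∧
    (Φ).refl ⟨1, by decide⟩ (rt _ 7) = rt _ 7 :=
  ⟨refl_eq _ _ _ (by decide +kernel), refl_eq _ _ _ (by decide +kernel)⟩

theorem nw_conj_two [CharP K 2] (i : Fin Cfsg.Lie.chevB2.rank) {r q : Fin Cfsg.Lie.chevB2.nroots}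
    (h : (Φ).refl i r = q) (t : K) :
    (Φ).nw ((Φ).p i) (1 : Kˣ) * (Φ).toAlg.xg r t * ((Φ).nw ((Φ).p i) 1)⁻¹ = (Φ).toAlg.xg q t := by
  rw [(Φ).nw_conj_xg, mul_inv_cancel_right, h]
  congr 1
  rcases (Φ).eta_unit i r with e | e <;> rw [e] <;> push_cast
  · rw [one_mul]
  · rw [CharTwo.neg_eq, one_mul]

theorem conj_pair (n a b : GL Cfsg.Lie.chevB2.Idx K) : n * (a * b) * n⁻¹ = (n * a * n⁻¹) * (n * b * n⁻¹) := by
  group

variable (hrat : (Φ).ratE σ ≤ H)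

theorem comm76 (u v : K) : Commute (𝕩 6 u) (𝕩 7 v) := by
  refine Eq.symm ?_
  show 𝕩 7 v * 𝕩 6 u = _
  rw [(Φ).comm_xg (by decide +kernel) (by decide +kernel),
    show Cfsg.Lie.chevB2.commTerms (rt Cfsg.Lie.chevB2 6).val (rt Cfsg.Lie.chevB2 7).val = [] by
      decide +kernel]
  simp [Chev.tval]

theorem comm_of_nil {r s : Fin Cfsg.Lie.chevB2.nroots} (h1 : s ≠ r) (h2 : s ≠ r.rev)
    (h3 : Cfsg.Lie.chevB2.commTerms r.val s.val = []) (u v : K) :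
    Commute ((Φ).toAlg.xg r u) ((Φ).toAlg.xg s v) := by
  refine Eq.symm ?_
  show (Φ).toAlg.xg s v * (Φ).toAlg.xg r u = _
  rw [(Φ).comm_xg h1 h2, h3]
  simp [Chev.tval]

include hrat in
/-- In characteristic two the two central coordinates can be made equal. -/
theorem key [CharP K 2] {f e : K} (hw : 𝕩 6 f * 𝕩 7 e ∈ H) :
    𝕩 6 (f + e) ∈ H ∧ 𝕩 6 e * 𝕩 7 e ∈ H := by
  set i0 : Fin Cfsg.Lie.chevB2.rank := ⟨0, by decide⟩
  set n0 := (Φ).nw ((Φ).p i0) (1 : Kˣ)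
  have hn0 : n0 ∈ H := hrat ((Φ).nw_one_mem_ratE σ _)
  have h1 : 𝕩 6 f * 𝕩 4 e ∈ H := by
    rw [show 𝕩 6 f * 𝕩 4 e = n0 * (𝕩 6 f * 𝕩 7 e) * n0⁻¹ by
      rw [conj_pair, nw_conj_two _ refl0.1, nw_conj_two _ refl0.2.1]]
    exact mul_mem (mul_mem hn0 hw) (inv_mem hn0)
  have h2 : 𝕩 7 e * 𝕩 4 e ∈ H := by
    have e1 : 𝕩 7 e * 𝕩 4 e = 𝕩 6 f * 𝕩 7 e * (𝕩 6 f * 𝕩 4 e) := by
      calc 𝕩 7 e * 𝕩 4 e = (𝕩 6 f * 𝕩 6 f) * (𝕩 7 e * 𝕩 4 e) := by
            rw [← (Φ).toAlg.xg_add, CharTwo.add_self_eq_zero, (Φ).toAlg.xg_zero, one_mul]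
        _ = 𝕩 6 f * (𝕩 6 f * 𝕩 7 e) * 𝕩 4 e := by group
        _ = 𝕩 6 f * (𝕩 7 e * 𝕩 6 f) * 𝕩 4 e := by rw [(comm76 f e).eq]
        _ = _ := by group
    rw [e1]
    exact mul_mem hw h1
  have hT : 𝕩 2 (1 : K) ∈ H := hrat ((Φ).xg_mem_ratE σ (map_one σ))
  have e7 : 𝕩 7 e * 𝕩 2 1 = 𝕩 2 1 * 𝕩 7 e * (𝕩 6 e * 𝕩 4 e) := by
    rw [(Φ).comm_xg (by decide +kernel) (by decide +kernel),
      show Cfsg.Lie.chevB2.commTerms (rt Cfsg.Lie.chevB2 2).val (rt Cfsg.Lie.chevB2 7).val =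
        [(6, 1, 1, 1), (4, -1, 2, 1)] by decide +kernel,
      (Φ).tval_cons (by decide +kernel), (Φ).tval_single (by decide +kernel)]
    simp [CharTwo.neg_eq]
  have c42 : 𝕩 4 e * 𝕩 2 1 = 𝕩 2 1 * 𝕩 4 e :=
    (comm_of_nil (by decide +kernel) (by decide +kernel) (by decide +kernel) 1 e).eq.symm
  have h3 : 𝕩 6 e * 𝕩 7 e ∈ H := by
    have e3 : (𝕩 2 1)⁻¹ * (𝕩 7 e * 𝕩 4 e) * 𝕩 2 1 = 𝕩 6 e * 𝕩 7 e := by
      calc (𝕩 2 1)⁻¹ * (𝕩 7 e * 𝕩 4 e) * 𝕩 2 1 = (𝕩 2 1)⁻¹ * 𝕩 7 e * (𝕩 4 e * 𝕩 2 1) := by group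
        _ = (𝕩 2 1)⁻¹ * (𝕩 7 e * 𝕩 2 1) * 𝕩 4 e := by rw [c42]; group
        _ = 𝕩 7 e * 𝕩 6 e * (𝕩 4 e * 𝕩 4 e) := by rw [e7]; group
        _ = _ := by
          rw [← (Φ).toAlg.xg_add, CharTwo.add_self_eq_zero, (Φ).toAlg.xg_zero, mul_one,
            (comm76 e e).eq]
    rw [← e3]
    exact mul_mem (mul_mem (inv_mem hT) h2) hT
  refine ⟨?_, h3⟩
  have e4 : 𝕩 6 (f + e) = 𝕩 6 f * 𝕩 7 e * (𝕩 6 e * 𝕩 7 e) := by
    calc 𝕩 6 (f + e) = 𝕩 6 f * 𝕩 6 e * (𝕩 7 e * 𝕩 7 e) := by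
          rw [← (Φ).toAlg.xg_add, ← (Φ).toAlg.xg_add, CharTwo.add_self_eq_zero, (Φ).toAlg.xg_zero,
            mul_one]
      _ = 𝕩 6 f * (𝕩 6 e * 𝕩 7 e) * 𝕩 7 e := by group
      _ = 𝕩 6 f * (𝕩 7 e * 𝕩 6 e) * 𝕩 7 e := by rw [(comm76 e e).eq]
      _ = _ := by group
  rw [e4]
  exact mul_mem hw h3

variable [Finite H] (p : ℕ) [Fact p.Prime] [CharP K p]

include hrat p in
/-- The central part is rational. -/
theorem central_two [CharP K 2]
    (hroot : ∀ (r : Fin Cfsg.Lie.chevB2.nroots) (t : K), (Φ).toAlg.xg r t ∈ H → σ t = t)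
    {d e : K} (hw : 𝕩 6 d * 𝕩 7 e ∈ H) : σ d = d ∧ σ e = e := by
  set i0 : Fin Cfsg.Lie.chevB2.rank := ⟨0, by decide⟩
  set i1 : Fin Cfsg.Lie.chevB2.rank := ⟨1, by decide⟩
  set n0 := (Φ).nw ((Φ).p i0) (1 : Kˣ)
  set n1 := (Φ).nw ((Φ).p i1) (1 : Kˣ)
  have hn0 : n0 ∈ H := hrat ((Φ).nw_one_mem_ratE σ _)
  have hn1 : n1 ∈ H := hrat ((Φ).nw_one_mem_ratE σ _)
  obtain ⟨hde, hw1⟩ := key hrat hw
  have hfe : σ (d + e) = d + e := hroot _ _ hde
  -- transport of the equal pair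
  have hA : 𝕩 2 e * 𝕩 4 e ∈ H := by
    rw [show 𝕩 2 e * 𝕩 4 e = n0 * (n1 * (𝕩 6 e * 𝕩 7 e) * n1⁻¹) * n0⁻¹ by
      rw [conj_pair n1, nw_conj_two i1 refl1.1, nw_conj_two i1 refl1.2, conj_pair,
        nw_conj_two i0 refl0.2.2.2, nw_conj_two i0 refl0.2.1]]
    exact mul_mem (mul_mem hn0 (mul_mem (mul_mem hn1 hw1) (inv_mem hn1))) (inv_mem hn0)
  have e7 : 𝕩 7 e * 𝕩 2 e = 𝕩 2 e * 𝕩 7 e * (𝕩 6 (e ^ 2) * 𝕩 4 (e ^ 3)) := by
    rw [(Φ).comm_xg (by decide +kernel) (by decide +kernel),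
      show Cfsg.Lie.chevB2.commTerms (rt Cfsg.Lie.chevB2 2).val (rt Cfsg.Lie.chevB2 7).val =
        [(6, 1, 1, 1), (4, -1, 2, 1)] by decide +kernel,
      (Φ).tval_cons (by decide +kernel), (Φ).tval_single (by decide +kernel)]
    simp only [Int.cast_one, Int.cast_neg, CharTwo.neg_eq, one_mul, pow_one]
    congr 2
    · congr 1; ring
    · congr 1; ring
  have c62 : 𝕩 6 e * 𝕩 2 e = 𝕩 2 e * 𝕩 6 e := by
    rw [(Φ).comm_xg (by decide +kernel) (by decide +kernel),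
      show Cfsg.Lie.chevB2.commTerms (rt Cfsg.Lie.chevB2 2).val (rt Cfsg.Lie.chevB2 6).val =
        [(4, -2, 1, 1)] by decide +kernel,
      (Φ).tval_single (by decide +kernel)]
    have : ((-2 : ℤ) : K) = 0 := by
      push_cast
      rw [show (2 : K) = 0 from CharTwo.two_eq_zero, neg_zero]
    simp [this]
  have c46 : ∀ u v : K, Commute (𝕩 4 u) (𝕩 6 v) :=
    comm_of_nil (by decide +kernel) (by decide +kernel) (by decide +kernel)
  have c47 : ∀ u v : K, Commute (𝕩 4 u) (𝕩 7 v) :=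
    comm_of_nil (by decide +kernel) (by decide +kernel) (by decide +kernel)
  have hB : 𝕩 6 (e ^ 2) * 𝕩 4 (e ^ 3) ∈ H := by
    have e5 : (𝕩 6 e * 𝕩 7 e)⁻¹ * (𝕩 2 e * 𝕩 4 e)⁻¹ * (𝕩 6 e * 𝕩 7 e) * (𝕩 2 e * 𝕩 4 e) =
        𝕩 6 (e ^ 2) * 𝕩 4 (e ^ 3) := by
      have h1 : (𝕩 6 e * 𝕩 7 e) * (𝕩 2 e * 𝕩 4 e) =
          (𝕩 2 e * 𝕩 4 e) * (𝕩 6 e * 𝕩 7 e) * (𝕩 6 (e ^ 2) * 𝕩 4 (e ^ 3)) := by
        have c : ∀ v : K, Commute (𝕩 4 e) (𝕩 6 (e ^ 2) * 𝕩 4 v) := fun v =>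
          (c46 _ _).mul_right (by
            show _ = _
            rw [← (Φ).toAlg.xg_add, ← (Φ).toAlg.xg_add, add_comm])
        calc _ = 𝕩 6 e * (𝕩 7 e * 𝕩 2 e) * 𝕩 4 e := by group
          _ = (𝕩 6 e * 𝕩 2 e) * 𝕩 7 e * ((𝕩 6 (e ^ 2) * 𝕩 4 (e ^ 3)) * 𝕩 4 e) := by rw [e7]; group
          _ = 𝕩 2 e * (𝕩 6 e * 𝕩 7 e * 𝕩 4 e) * (𝕩 6 (e ^ 2) * 𝕩 4 (e ^ 3)) := by
            rw [c62, ← (c _).eq]; group
          _ = _ := by rw [← (((c46 e e).mul_right (c47 e e))).eq]; group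
      rw [mul_assoc, h1]
      group
    rw [← e5]
    exact mul_mem (mul_mem (mul_mem (inv_mem hw1) (inv_mem hA)) hw1) hA
  have hC : 𝕩 6 (e ^ 2) * 𝕩 7 (e ^ 3) ∈ H := by
    rw [show 𝕩 6 (e ^ 2) * 𝕩 7 (e ^ 3) = n0 * (𝕩 6 (e ^ 2) * 𝕩 4 (e ^ 3)) * n0⁻¹ by
      rw [conj_pair, nw_conj_two i0 refl0.1, nw_conj_two i0 refl0.2.2.1]]
    exact mul_mem (mul_mem hn0 hB) (inv_mem hn0)
  have hg : σ (e ^ 2 + e ^ 3) = e ^ 2 + e ^ 3 := hroot _ _ (key hrat hC).1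
  -- the same with one step less
  have h5 : 𝕩 5 e * 𝕩 7 e ∈ H := by
    rw [show 𝕩 5 e * 𝕩 7 e = n1 * (𝕩 6 e * 𝕩 7 e) * n1⁻¹ by
      rw [conj_pair, nw_conj_two i1 refl1.1, nw_conj_two i1 refl1.2]]
    exact mul_mem (mul_mem hn1 hw1) (inv_mem hn1)
  have hT : 𝕩 4 (1 : K) ∈ H := hrat ((Φ).xg_mem_ratE σ (map_one σ))
  have hD : 𝕩 6 e * 𝕩 7 (e ^ 2) ∈ H := by
    have c57 : 𝕩 5 e * 𝕩 4 1 = 𝕩 4 1 * 𝕩 5 e * (𝕩 6 e * 𝕩 7 (e ^ 2)) := by
      rw [(Φ).comm_xg (by decide +kernel) (by decide +kernel),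
        show Cfsg.Lie.chevB2.commTerms (rt Cfsg.Lie.chevB2 4).val (rt Cfsg.Lie.chevB2 5).val =
          [(6, 1, 1, 1), (7, -1, 1, 2)] by decide +kernel,
        (Φ).tval_cons (by decide +kernel), (Φ).tval_single (by decide +kernel)]
      simp [CharTwo.neg_eq]
    have c77 : Commute (𝕩 7 e) (𝕩 6 e * 𝕩 7 (e ^ 2)) :=
      (comm76 e e).symm.mul_right (by
        show _ = _
        rw [← (Φ).toAlg.xg_add, ← (Φ).toAlg.xg_add, add_comm])
    have e6 : (𝕩 5 e * 𝕩 7 e)⁻¹ * (𝕩 4 1)⁻¹ * (𝕩 5 e * 𝕩 7 e) * 𝕩 4 1 = 𝕩 6 e * 𝕩 7 (e ^ 2) := by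
      calc _ = (𝕩 7 e)⁻¹ * (𝕩 5 e)⁻¹ * (𝕩 4 1)⁻¹ * 𝕩 5 e * (𝕩 7 e * 𝕩 4 1) := by group
        _ = (𝕩 7 e)⁻¹ * (𝕩 5 e)⁻¹ * (𝕩 4 1)⁻¹ * (𝕩 5 e * 𝕩 4 1) * 𝕩 7 e := by
          rw [← (c47 1 e).eq]; group
        _ = (𝕩 7 e)⁻¹ * ((𝕩 6 e * 𝕩 7 (e ^ 2)) * 𝕩 7 e) := by rw [c57]; group
        _ = _ := by rw [← c77.eq]; group
    rw [← e6]
    exact mul_mem (mul_mem (mul_mem (inv_mem h5) (inv_mem hT)) h5) hT
  have hf : σ (e + e ^ 2) = e + e ^ 2 := hroot _ _ (key hrat hD).1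
  have he : σ e = e := by
    by_cases h0 : e + e ^ 2 = 0
    · have : e * (1 + e) = 0 := by rw [← h0]; ring
      rcases mul_eq_zero.1 this with h | h
      · rw [h, map_zero]
      · rw [show e = 1 by rw [eq_comm, ← CharTwo.add_eq_zero]; exact h, map_one]
    · have h1 : e = (e ^ 2 + e ^ 3) / (e + e ^ 2) := by
        rw [eq_div_iff h0]; ring
      rw [h1, map_div₀, hg, hf]
  refine ⟨?_, he⟩
  rw [map_add, he] at hfe
  exact add_right_cancel hfe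

include hrat p in
/-- Long parameters with an irrational one contain a field above the fixed one. -/
theorem long_all (h : ∃ t ∈ (Φ).par H (rt _ 4), σ t ≠ t) :
    ∃ L : Subring K, Chev.IrrField σ L ∧ ∀ x ∈ L, x ∈ (Φ).par H (rt _ 4) := by
  classical
  set L := (Φ).par H (rt Cfsg.Lie.chevB2 4) with hL
  set S := (Φ).par H (rt Cfsg.Lie.chevB2 5) with hS
  have h7 : (Φ).par H (rt _ 7) = L :=
    (Φ).par_chain hrat [0] (by decide +kernel) (by decide +kernel)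
  have h6 : (Φ).par H (rt _ 6) = S :=
    (Φ).par_chain hrat [1] (by decide +kernel) (by decide +kernel)
  have w : ∀ a ∈ L, ∀ b ∈ S, 𝕩 6 (-(a * b)) * 𝕩 7 (a * b ^ 2) ∈ H := by
    intro a ha b hb
    have := (Φ).tval_mem (r := rt Cfsg.Lie.chevB2 4) (s := rt Cfsg.Lie.chevB2 5)
      (by decide +kernel) (by decide +kernel) (t := a) ha (u := b) hb
    rw [show Cfsg.Lie.chevB2.commTerms (rt Cfsg.Lie.chevB2 4).val (rt Cfsg.Lie.chevB2 5).val =
        [(6, 1, 1, 1), (7, -1, 1, 2)] by decide +kernel,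
      (Φ).tval_cons (by decide +kernel), (Φ).tval_single (by decide +kernel)] at this
    simpa using this
  have one4 : (1 : K) ∈ L := (Φ).fixed_mem_par hrat _ (map_one σ)
  have one5 : (1 : K) ∈ S := (Φ).fixed_mem_par hrat _ (map_one σ)
  have hsq : ∀ b ∈ S, b ^ 2 ∈ L := by
    intro b hb
    have h1 : 𝕩 6 (-(1 * b)) ∈ H := (h6 ▸ S.neg_mem (by rwa [one_mul]) : -(1 * b) ∈ (Φ).par H (rt _ 6))
    have h2 := (H.mul_mem_cancel_left h1).1 (w 1 one4 b hb)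
    rw [one_mul] at h2
    exact h7 ▸ h2
  have hLS : ∀ a ∈ L, a ∈ S := by
    intro a ha
    have h1 : 𝕩 7 (a * 1 ^ 2) ∈ H := by
      rw [one_pow, mul_one, ← Chev.mem_par, h7]; exact ha
    have h2 := (H.mul_mem_cancel_right h1).1 (w a ha 1 one5)
    have h3 : -(a * 1) ∈ S := h6 ▸ h2
    simpa using S.neg_mem h3
  refine (Φ).par_big_of_mul hrat ?_ h
  intro a b ha hb
  by_cases hp : p = 2
  swap
  · have h2 : a * b + a * b ∈ L := by
      have := L.sub_mem (L.sub_mem (hsq _ (hLS _ (L.add_mem ha hb))) (hsq a (hLS a ha))) (hsq b (hLS b hb))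
      rwa [show (a + b) ^ 2 - a ^ 2 - b ^ 2 = a * b + a * b by ring] at this
    have hodd : Odd p := (Fact.out : p.Prime).odd_of_ne_two hp
    obtain ⟨m, hm⟩ := hodd
    have := L.nsmul_mem h2 (m + 1)
    rwa [nsmul_eq_mul, show ((m + 1 : ℕ) : K) * (a * b + a * b) = a * b by
      have h0 : ((2 * m + 1 : ℕ) : K) = 0 := by rw [← hm]; exact CharP.cast_eq_zero K p
      push_cast at h0 ⊢
      linear_combination (a * b) * h0] at this
  subst hp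
  have hSL : ∀ c ∈ S, c ∈ L := by
    have hfin : ((S : Set K)).Finite := (Φ).par_finite _
    have hcard : (S : Set K).ncard ≤ (L : Set K).ncard :=
      Set.ncard_le_ncard_of_injOn (fun c => c ^ 2) hsq
        (fun c _ d _ e => CharTwo.sq_inj.1 e) ((Φ).par_finite _)
    have := Set.eq_of_subset_of_ncard_le (fun c hc => hLS c hc) hcard hfin
    intro c hc
    rw [← SetLike.mem_coe, this]
    exact hc
  have hphi : ∀ a ∈ L, ∀ b ∈ L, a * (b + b ^ 2) ∈ L := by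
    intro a ha b hb
    have h1 := w a ha b (hLS b hb)
    rw [CharTwo.neg_eq] at h1
    have h2 : a * b + a * b ^ 2 ∈ S := h6 ▸ (key hrat h1).1
    rw [mul_add]
    exact hSL _ h2
  -- the multipliers of `L`
  let R : Set K := {c | ∀ y ∈ L, c * y ∈ L}
  have Rmul : ∀ c ∈ R, ∀ d ∈ R, c * d ∈ R := fun c hc d hd y hy => by
    rw [mul_assoc]; exact hc _ (hd y hy)
  have R1 : (1 : K) ∈ R := fun y hy => by rwa [one_mul]
  have Radd : ∀ c ∈ R, ∀ d ∈ R, c + d ∈ R := fun c hc d hd y hy => by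
    rw [add_mul]; exact L.add_mem (hc y hy) (hd y hy)
  have Rphi : ∀ c ∈ L, c + c ^ 2 ∈ R := fun c hc y hy => by rw [mul_comm]; exact hphi y hy c hc
  have Rinv : ∀ c ∈ R, c ≠ 0 → c⁻¹ ∈ R := by
    intro c hc hc0 y hy
    haveI : Finite L := ((Φ).par_finite (H := H) _).to_subtype
    have hinj : Function.Injective (fun z : L => (⟨c * z.1, hc _ z.2⟩ : L)) := fun a b e =>
      Subtype.ext (mul_left_cancel₀ hc0 (congrArg Subtype.val e))
    obtain ⟨z, hz⟩ := (Finite.injective_iff_surjective.1 hinj) ⟨y, hy⟩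
    rw [← show c * z.1 = y from congrArg Subtype.val hz, inv_mul_cancel_left₀ hc0]
    exact z.2
  suffices hb' : b ∈ R by rw [mul_comm]; exact hb' a ha
  by_contra hbR
  have hR01 : ∀ c ∈ R, c = 0 ∨ c = 1 := by
    intro c hc
    by_contra hcc
    push Not at hcc
    have hd : c + c ^ 2 ≠ 0 := fun e0 => by
      have : c * (1 + c) = 0 := by rw [← e0]; ring
      rcases mul_eq_zero.1 this with h' | h'
      · exact hcc.1 h'
      · exact hcc.2 (by rw [eq_comm, ← CharTwo.add_eq_zero]; exact h')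
    have hcb : c * b ∈ L := hc b hb
    have h2 : (c + c ^ 2) * b ∈ R := by
      have h3 := Radd _ (Rphi _ hcb) _ (Rmul _ (Rmul _ hc _ hc) _ (Rphi b hb))
      rw [show c * b + (c * b) ^ 2 + c * c * (b + b ^ 2) =
        (c + c ^ 2) * b + ((c * b) ^ 2 + (c * b) ^ 2) by ring, CharTwo.add_self_eq_zero, add_zero] at h3
      exact h3
    have h4 := Rmul _ (Rinv _ (Radd _ hc _ (by rw [pow_two]; exact Rmul _ hc _ hc)) hd) _ h2
    rw [inv_mul_cancel_left₀ hd] at h4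
    exact hbR h4
  have hroots : ∀ c ∈ L, c + c ^ 2 = 0 ∨ c + c ^ 2 = 1 := fun c hc => hR01 _ (Rphi c hc)
  have hb2 : b + b ^ 2 = 1 := (hroots b hb).resolve_left fun e0 => by
    have : b * (1 + b) = 0 := by rw [← e0]; ring
    rcases mul_eq_zero.1 this with h' | h'
    · exact hbR (h' ▸ fun y _ => by rw [zero_mul]; exact L.zero_mem)
    · exact hbR ((show b = 1 by rw [eq_comm, ← CharTwo.add_eq_zero]; exact h') ▸ R1)
  apply hbR
  intro c hc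
  rcases hroots c hc with h' | h'
  · have : c * (1 + c) = 0 := by rw [← h']; ring
    rcases mul_eq_zero.1 this with h'' | h''
    · rw [h'', mul_zero]; exact L.zero_mem
    · rw [show c = 1 by rw [eq_comm, ← CharTwo.add_eq_zero]; exact h'', mul_one]; exact hb
  · have : (c + b) * (c + b + 1) = 0 := by
      have t2 : (2 : K) = 0 := CharTwo.two_eq_zero
      linear_combination h' + hb2 + (1 + b * c) * t2
    rcases mul_eq_zero.1 this with h'' | h''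
    · rw [CharTwo.add_eq_zero.1 h'']
      rw [show b * b = b + 1 by
        have t2 : (2 : K) = 0 := CharTwo.two_eq_zero
        linear_combination hb2 - b * t2]
      exact L.add_mem hb one4
    · rw [show c = b + 1 by
        have t2 : (2 : K) = 0 := CharTwo.two_eq_zero
        linear_combination h'' - (b + 1) * t2, mul_add, mul_one, add_comm, ← pow_two, hb2]
      exact one4

end B2Sub

section

variable {K : Type*} [Field K] {σ : K ≃+* K} (p : ℕ) [Fact p.Prime] [CharP K p]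

include p in
theorem subfieldData_B2 : SubfieldData chevB2 K σ where
  span := by decide +kernel
  high := ⟨7, 4, by decide +kernel, 0, 0, [0, 3, 4, 7], by decide +kernel⟩
  root := by
    intro H hfin hrat r t ht hσ
    have e4 : chevB2.p ⟨1, by decide⟩ = rt Cfsg.Lie.chevB2 4 := chevB2.p_eq (by decide +kernel)
    have e5 : chevB2.p ⟨0, by decide⟩ = rt Cfsg.Lie.chevB2 5 := chevB2.p_eq (by decide +kernel)
    refine chevB2.big_of_long hrat ⟨1, by decide⟩ ⟨0, by decide⟩ (by decide +kernel)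
      (Or.inr (by decide +kernel)) ?_ ?_ ht hσ
    · rw [e4]; exact B2Sub.long_all hrat p
    · rw [e4, e5]
      intro hj
      have h7 := chevB2.par_chain hrat (r := rt Cfsg.Lie.chevB2 4) (q := rt Cfsg.Lie.chevB2 7) [0]
        (by decide +kernel) (by decide +kernel)
      have h6 := chevB2.par_chain hrat (r := rt Cfsg.Lie.chevB2 5) (q := rt Cfsg.Lie.chevB2 6) [1]
        (by decide +kernel) (by decide +kernel)
      by_cases hp : p = 2
      · subst hp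
        exact chevB2.short_to_long_sq hrat (r := rt Cfsg.Lie.chevB2 4)
          (q1 := rt Cfsg.Lie.chevB2 6) (q2 := rt Cfsg.Lie.chevB2 7)
          (by decide +kernel) (by decide +kernel) (c1 := 1) (Or.inl rfl) (c2 := -1) (Or.inr rfl)
          (by decide +kernel) h6 h7 hj
      · refine chevB2.short_to_long_single hrat (s := rt Cfsg.Lie.chevB2 6)
          (q := rt Cfsg.Lie.chevB2 7) (by decide +kernel)
          (by decide +kernel) (c := 2) ?_ (by decide +kernel) h6 h7 hj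
        have : (2 : K) ≠ 0 := Ring.two_ne_zero (by rwa [ringChar.eq K p])
        exact_mod_cast this
  unip := by
    intro H hfin hrat hroot
    rcases exists_test (K := K) p with ⟨rfl, hz, hnz⟩ | ⟨-, hz, hnz⟩ | ⟨-, hz, hnz⟩
    · intro u huH huU
      have hok : centralCert Cfsg.Lie.chevB2 (zmodTest 2) (fun c => !zmodTest 2 c)
          [(rt Cfsg.Lie.chevB2 6).val, (rt Cfsg.Lie.chevB2 7).val] = true := by decide +kernel
      have hp6 : chevB2.toTables.Pos (rt Cfsg.Lie.chevB2 6) := by unfold Tables.Pos; decide +kernel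
      have hp7 : chevB2.toTables.Pos (rt Cfsg.Lie.chevB2 7) := by unfold Tables.Pos; decide +kernel
      refine chevB2.unipotent_rat 2 σ hrat hok hz hnz (fun c hcH hc => ?_) huH huU
      obtain ⟨d, e, rfl⟩ := chevB2.exists_two hp6 hp7 hok hz hc
      obtain ⟨hd, he⟩ := B2Sub.central_two hrat 2 hroot hcH
      exact mul_mem (chevB2.xg_mem_ratG σ hd) (chevB2.xg_mem_ratG σ he)
    · exact chevB2.unip_single p (rt _ 7) (by decide +kernel) hz hnz H hfin hrat hroot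
    · exact chevB2.unip_single p (rt _ 7) (by decide +kernel) hz hnz H hfin hrat hroot
  cen := by
    rcases exists_test (K := K) p with ⟨-, hz, hnz⟩ | ⟨-, hz, hnz⟩ | ⟨-, hz, hnz⟩
    exacts [chevB2.cenFact_of_simpleCert (L := [6, 7]) (by decide +kernel) hz hnz (by decide +kernel),
      chevB2.cenFact_of_simpleCert (L := [7]) (by decide +kernel) hz hnz (by decide +kernel),
      chevB2.cenFact_of_simpleCert (L := [7]) (by decide +kernel) hz hnz (by decide +kernel)]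

end

end CfsgLib.Chev
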