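/-
The rational points of a field automorphism of prime order form a maximal subgroup.
-/
import Cfsg.Agent.Lib.Chev.SubfieldMax.TypeB2
import Cfsg.Agent.Lib.Chev.RootCentralizer
import Cfsg.Agent.Lib.Chev.CentralizerFinite
import Cfsg.Agent.Lib.Dickson.Main
import Mathlib.LinearAlgebra.Matrix.CharP

set_option autoImplicit false
set_option linter.dupNamespace false
set_option linter.unusedSectionVars false
set_option linter.unusedSimpArgs false
set_option maxHeartbeats 1000000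

namespace CfsgLib.Chev

open Cfsg.Lie Matrix

open CfsgLib.Dickson in
/-- The kernel of rank one data with faithful root maps is finite. -/
theorem RankOne.ker_finite {K : Type*} [Field K] {G : Type*} [Group G] {p : ℕ} (hp : p ≠ 2)
    [CharP K p] (R : RankOne K G) (hx : ∀ t, R.x t = 1 → t = 0) (hy : ∀ t, R.y t = 1 → t = 0) :
    Set.Finite {A : SpecialLinearGroup (Fin 2) K | R.hom A = 1} := by
  classical
  cases finite_or_infinite K
  · exact Set.toFinite _
  have hu : ∀ t, R.hom (up t) = 1 → t = 0 := fun t h => hx t ((R.hom_u t).symm.trans h)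
  have hl : ∀ t, R.hom (lo t) = 1 → t = 0 := fun t h => hy t ((R.hom_l t).symm.trans h)
  have h2 : (2 : K) ≠ 0 := Ring.two_ne_zero (by rwa [ringChar.eq K p])
  have hneg : ∀ B : SpecialLinearGroup (Fin 2) K, R.hom B = 1 → ∀ Y, R.hom (B * Y * B⁻¹ * Y⁻¹) = 1 :=
    fun B hB Y => by rw [map_mul, map_mul, map_mul, map_inv, map_inv, hB]; group
  refine ((Set.finite_singleton (-1)).insert 1).subset fun A hA => ?_
  change R.hom A = 1 at hA
  by_cases hc : A.1 1 0 = 0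
  · have hd := det_eq A
    rw [hc, mul_zero, sub_zero] at hd
    have ha0 : A.1 0 0 ≠ 0 := left_ne_zero_of_mul_eq_one hd
    obtain ⟨i00, i01, i10, i11⟩ := inv_entries A
    have e1 : A * up 1 * A⁻¹ * (up 1)⁻¹ = up (A.1 0 0 ^ 2 - 1) := by
      rw [up_inv]
      refine ext_entries ?_ ?_ ?_ ?_
      · simp [mul_entry, i00, i01, i10, i11, hc]; linear_combination hd
      · simp [mul_entry, i00, i01, i10, i11, hc]; linear_combination -hd
      · simp [mul_entry, i00, i01, i10, i11, hc]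
      · simp [mul_entry, i00, i01, i10, i11, hc]; linear_combination hd
    have h1 := hu _ (e1 ▸ hneg A hA (up 1))
    have ha : A.1 1 1 = A.1 0 0 := by
      refine mul_left_cancel₀ ha0 ?_
      rw [hd]; linear_combination -h1
    have e3 : A * A = up (2 * (A.1 0 0 * A.1 0 1)) := by
      refine ext_entries ?_ ?_ ?_ ?_
      · simp [mul_entry, hc]; linear_combination h1
      · simp [mul_entry, ha]; ring
      · simp [mul_entry, hc]
      · simp [mul_entry, hc, ha]; linear_combination h1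
    have h3 := hu _ (by rw [← e3, map_mul, hA, mul_one])
    have e2 : A.1 0 1 = 0 := (mul_eq_zero.1 ((mul_eq_zero.1 h3).resolve_left h2)).resolve_left ha0
    have h4 : (A.1 0 0 - 1) * (A.1 0 0 + 1) = 0 := by linear_combination h1
    rcases mul_eq_zero.1 h4 with e | e
    · have ea := sub_eq_zero.1 e
      exact Or.inl (ext_entries (by simp [ea]) (by simp [e2]) (by simp [hc]) (by simp [ha, ea]))
    · have ea := eq_neg_of_add_eq_zero_left e
      exact Or.inr (ext_entries (by simp [ea]) (by simp [e2]) (by simp [hc]) (by simp [ha, ea]))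
  exfalso
  set s := -(A.1 0 0) / A.1 1 0 with hs
  set B := up s * A * (up s)⁻¹ with hB
  have hBk : R.hom B = 1 := by rw [hB, map_mul, map_mul, map_inv, hA, mul_one, mul_inv_cancel]
  have hB00 : B.1 0 0 = 0 := by
    rw [hB, up_inv]
    simp [mul_entry, hs]
    field_simp
    ring
  have hdB := det_eq B
  rw [hB00, zero_mul, zero_sub] at hdB
  obtain ⟨j00, j01, j10, j11⟩ := inv_entries B
  obtain ⟨l, hl0, hl4⟩ : ∃ l : K, l ≠ 0 ∧ l ^ 4 ≠ 1 := by
    by_contra hall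
    push Not at hall
    have hf : (Set.univ : Set K).Finite := by
      refine ((Polynomial.finite_setOf_isRoot (p := Polynomial.X ^ 4 - Polynomial.C (1 : K))
        (Polynomial.X_pow_sub_C_ne_zero (by norm_num) 1)).insert 0).subset fun x _ => ?_
      by_cases hx0 : x = 0
      · exact Or.inl hx0
      · exact Or.inr (by simp [hall x hx0])
    exact Set.infinite_univ hf
  let X : SpecialLinearGroup (Fin 2) K := ⟨!![l, 0; 0, l⁻¹], by simp [Matrix.det_fin_two, hl0]⟩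
  obtain ⟨x00, x01, x10, x11⟩ := inv_entries X
  have y00 : X.1 0 0 = l := rfl
  have y01 : X.1 0 1 = 0 := rfl
  have y10 : X.1 1 0 = 0 := rfl
  have y11 : X.1 1 1 = l⁻¹ := rfl
  set C := B * X * B⁻¹ * X⁻¹ with hC
  obtain ⟨k00, k01, k10, k11⟩ := inv_entries C
  have hC01 : C.1 0 1 = 0 := by
    simp [hC, mul_entry, j00, j01, j10, j11, x00, x01, x10, x11, y00, y01, y10, y11, hB00]
  have hC11 : C.1 1 1 = l ^ 2 := by
    simp [hC, mul_entry, j00, j01, j10, j11, x00, x01, x10, x11, y00, y01, y10, y11, hB00]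
    linear_combination l ^ 2 * hdB
  have hdC : C.1 0 0 * l ^ 2 = 1 := by
    have := det_eq C
    rwa [hC01, hC11, zero_mul, sub_zero] at this
  have hli : (lo (1 : K))⁻¹ = lo (-1) :=
    inv_eq_of_mul_eq_one_right (by rw [lo_mul, add_neg_cancel]; exact ext_entries rfl rfl rfl rfl)
  have e4 : C * lo 1 * C⁻¹ * (lo 1)⁻¹ = lo (l ^ 4 - 1) := by
    rw [hli]
    refine ext_entries ?_ ?_ ?_ ?_
    · simp [mul_entry, k00, k01, k10, k11, hC01, hC11]; linear_combination hdC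
    · simp [mul_entry, k00, k01, k10, k11, hC01, hC11]
    · simp [mul_entry, k00, k01, k10, k11, hC01, hC11]; linear_combination -hdC
    · simp [mul_entry, k00, k01, k10, k11, hC01, hC11]; linear_combination hdC
  exact hl4 (sub_eq_zero.1 (hl _ (e4 ▸ hneg C (hneg B hBk X) (lo 1))))

/-- What is used about the highest root `h` and the root `g`. -/
structure High {D : ChevalleyDatum} (Φ : Chev D) (h g : Fin D.nroots) : Prop where
  pos : Φ.toTables.Pos h
  dom : Φ.Dominant h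
  g_ne : g ≠ h ∧ g ≠ h.rev ∧ ∑ k, Φ.C h k * Φ.A k g = 0
  four : ∀ s, s ≠ h → s ≠ h.rev → ∑ k, Φ.C s k * Φ.A k h ≠ 4
  central : ∀ s, Φ.toTables.Pos s → s ≠ h → D.commTerms h.val s.val = []
  nonneg : ∀ s, Φ.toTables.Pos s → 0 ≤ ∑ k, Φ.C h k * Φ.A k s
  shape : ∀ s, s ≠ h → s ≠ h.rev → ∑ k, Φ.C h k * Φ.A k s = 1 ∨ ∑ k, Φ.C h k * Φ.A k s = -1 ∨
    (∑ k, Φ.C h k * Φ.A k s = 0 ∧ D.commTerms h.val s.val = [] ∧ D.commTerms h.rev.val s.val = [])

namespace Chev

variable {D : ChevalleyDatum} (Φ : Chev D)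

theorem prSN_eq (r s : Fin D.nroots) : prSN D r.val s.val = ∑ k, Φ.C r k * Φ.A k s := by
  have hsum : ∀ (n : ℕ) (f : ℕ → ℤ), ((List.range n).map f).sum = ∑ k : Fin n, f k.val := by
    intro n f
    induction n with
    | zero => simp
    | succ n ih =>
      rw [Fin.sum_univ_castSucc, List.range_succ, List.map_append, List.sum_append, List.map_singleton,
        List.sum_singleton, ih]
      simp only [Fin.val_castSucc, Fin.val_last]
  rw [prSN, hsum]
  exact Finset.sum_congr rfl fun k _ => by rw [Φ.coroot_eq r k, Φ.cartan_val k s]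

theorem high_of_cert {h g : ℕ} (hok : highCert D h g = true) :
    ∃ (hh : h < D.nroots) (hg : g < D.nroots), High Φ ⟨h, hh⟩ ⟨g, hg⟩ := by
  simp only [highCert, Bool.and_eq_true, decide_eq_true_eq, List.all_eq_true, List.mem_range,
    Bool.or_eq_true, List.isEmpty_iff] at hok
  obtain ⟨⟨⟨⟨⟨⟨⟨hh, hpos⟩, hg⟩, hgh⟩, hgn⟩, hg0⟩, hdom⟩, hall⟩ := hok
  refine ⟨hh, hg, ?_⟩
  set H : Fin D.nroots := ⟨h, hh⟩
  have hneg : D.neg h = H.rev.val := Φ.negIdx_eq H
  have key : ∀ s : Fin D.nroots, s ≠ H → s ≠ H.rev →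
      prSN D s.val h ≠ 4 ∧ (2 * s.val < D.nroots ∨ D.commTerms h s.val = [] ∧ 0 ≤ prSN D h s.val) ∧
      ((prSN D h s.val = 1 ∨ prSN D h s.val = -1) ∨
        (prSN D h s.val = 0 ∧ D.commTerms h s.val = []) ∧ D.commTerms (D.neg h) s.val = []) := by
    intro s h1 h2
    rcases hall s.val s.isLt with (e | e) | e
    · exact absurd (Fin.ext e) h1
    · exact absurd (Fin.ext (e.trans hneg)) h2
    · exact ⟨e.1.1, e.1.2, e.2⟩
  have hrevne : ∀ s, Φ.toTables.Pos s → s ≠ H.rev := fun s hs => Φ.ne_rev_of_pos hpos hs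
  refine ⟨hpos, ?_, ⟨fun e => hgh (congrArg Fin.val e), fun e => hgn (by rw [hneg]; exact congrArg Fin.val e),
    ?_⟩, ?_, ?_, ?_, ?_⟩
  · intro i
    rw [← Φ.cartan_val]
    exact hdom i.val i.isLt
  · rw [← Φ.prSN_eq H ⟨g, hg⟩]; exact hg0
  · intro s h1 h2
    rw [← Φ.prSN_eq s H]; exact (key s h1 h2).1
  · intro s hs h1
    exact ((key s h1 (hrevne s hs)).2.1.resolve_left (not_lt.2 hs)).1
  · intro s hs
    rw [← Φ.prSN_eq H s]
    by_cases h1 : s = H
    · rw [h1, Φ.prSN_eq H H, Φ.pair_self]; norm_num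
    · exact ((key s h1 (hrevne s hs)).2.1.resolve_left (not_lt.2 hs)).2
  · intro s h1 h2
    rw [← Φ.prSN_eq H s]
    rcases (key s h1 h2).2.2 with (e | e) | ⟨⟨e1, e2⟩, e3⟩
    · exact Or.inl e
    · exact Or.inr (Or.inl e)
    · exact Or.inr (Or.inr ⟨e1, e2, hneg ▸ e3⟩)

theorem finite_comap_conj {K : Type*} [Field K] {G : Type*} [Group G] {p : ℕ} (hp : p ≠ 2) (_ : ℕ) (P : G)
    (R : RankOne K G) (H : Subgroup G) [Finite H] [CharP K p]
    (hx : ∀ t, R.x t = 1 → t = 0) (hy : ∀ t, R.y t = 1 → t = 0) :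
    Finite ↥(H.comap ((MulAut.conj P).toMonoidHom.comp R.hom)) := by
  set ψ := (MulAut.conj P).toMonoidHom.comp R.hom
  have hker : ∀ A : SpecialLinearGroup (Fin 2) K, ψ A = 1 → R.hom A = 1 := fun A h =>
    (MulAut.conj P).injective (by rw [map_one]; exact h)
  have hkfin : Set.Finite {A : SpecialLinearGroup (Fin 2) K | R.hom A = 1} :=
    RankOne.ker_finite hp R hx hy
  haveI : Finite {A : SpecialLinearGroup (Fin 2) K // R.hom A = 1} := hkfin.to_subtype
  choose rep hrep using fun y : {y : H // ∃ A, ψ A = (y : G)} => y.2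
  refine Finite.of_injective
    (β := {y : H // ∃ A, ψ A = (y : G)} × {A : SpecialLinearGroup (Fin 2) K // R.hom A = 1})
    (fun A => (⟨⟨ψ A.1, A.2⟩, A.1, rfl⟩, ⟨(rep ⟨⟨ψ A.1, A.2⟩, A.1, rfl⟩)⁻¹ * A.1, hker _ (by
      rw [map_mul, map_inv, hrep]; exact inv_mul_cancel _)⟩)) ?_
  intro A B e
  simp only [Prod.mk.injEq] at e
  obtain ⟨e1, e2⟩ := e
  have e2' := congrArg Subtype.val e2
  simp only [e1] at e2'
  exact Subtype.ext (mul_left_cancel e2')

variable {h g : Fin D.nroots} (hh : High Φ h g) {K : Type*} [Field K]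

theorem pr_rev (r s : Fin D.nroots) :
    ∑ k, Φ.C r k * Φ.A k s.rev = -(∑ k, Φ.C r k * Φ.A k s) := by
  have e : ∀ k, Φ.A k s.rev = -Φ.A k s := fun k => by
    rw [Φ.A_lin k s.rev, Φ.A_lin k s]
    simp only [Φ.V_neg, neg_mul, Finset.sum_neg_distrib]
  simp only [e, mul_neg, Finset.sum_neg_distrib]

theorem commute_of_nil {r s : Fin D.nroots} (h1 : s ≠ r) (h2 : s ≠ r.rev)
    (h3 : D.commTerms r.val s.val = []) (u v : K) : Commute (Φ.toAlg.xg r u) (Φ.toAlg.xg s v) := by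
  refine Eq.symm ?_
  show Φ.toAlg.xg s v * Φ.toAlg.xg r u = _
  rw [Φ.comm_xg h1 h2, h3]
  simp [tval]

include hh in
theorem high_commute_U (a : K) {x : GL D.Idx K} (hx : x ∈ Φ.US K Φ.toTables.Pos) :
    Commute (Φ.toAlg.xg h a) x := by
  induction hx using Subgroup.closure_induction with
  | mem y hy =>
    obtain ⟨s, u, hs, rfl⟩ := hy
    by_cases hsh : s = h
    · subst hsh
      show _ = _
      rw [← Φ.toAlg.xg_add, ← Φ.toAlg.xg_add, add_comm]
    exact Φ.commute_of_nil hsh (Φ.ne_rev_of_pos hh.pos hs) (hh.central s hs hsh) a u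
  | one => exact Commute.one_right _
  | mul y w _ _ hy hw => exact hy.mul_right hw
  | inv y _ hy => exact hy.inv_right

include hh in
/-- A conjugate of a highest root element is a conjugate of a root element by an element of `U`. -/
theorem conj_high {k : GL D.Idx K} (hk : k ∈ D.group K) (a : K) (ha : a ≠ 0) :
    ∃ π ∈ Φ.WL, ∃ v ∈ D.posUnipotent K, ∃ c : K, c ≠ 0 ∧
      k * Φ.toAlg.xg h a * k⁻¹ = v * Φ.toAlg.xg (π h) c * v⁻¹ := by
  obtain ⟨b, hb, n, hn, π, hπ, hm, u, hu, rfl⟩ := Φ.exists_normal_form hk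
  obtain ⟨v, hv, d, hd, rfl⟩ := Φ.mem_B_iff.1 hb
  obtain ⟨t, rfl⟩ := Φ.exists_torus_of_mem_H hd
  obtain ⟨e, he, hx, -⟩ := hm.1 h
  have hu' : u ∈ Φ.US K Φ.toTables.Pos := by rw [← Φ.posUnipotent_eq_US]; exact Φ.Uneg_le_U hu
  refine ⟨π, hπ, v, hv, (Φ.toSys.chi t (π h) : K) * (e * a),
    mul_ne_zero (Units.ne_zero _) (mul_ne_zero he ha), ?_⟩
  calc v * Φ.toAlg.torus t * n * u * Φ.toAlg.xg h a * (v * Φ.toAlg.torus t * n * u)⁻¹
      = v * Φ.toAlg.torus t * n * (u * Φ.toAlg.xg h a * u⁻¹) * n⁻¹ * (Φ.toAlg.torus t)⁻¹ * v⁻¹ := by group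
    _ = v * Φ.toAlg.torus t * (n * Φ.toAlg.xg h a * n⁻¹) * (Φ.toAlg.torus t)⁻¹ * v⁻¹ := by
      rw [(Φ.high_commute_U hh a hu').symm.eq, mul_inv_cancel_right]; group
    _ = v * (Φ.toAlg.torus t * Φ.toAlg.xg (π h) (e * a)) * (Φ.toAlg.torus t)⁻¹ * v⁻¹ := by
      rw [hx]; group
    _ = _ := by rw [Φ.toAlg.torus_xg]; group

include hh in
theorem conj_high_neg {v : GL D.Idx K} (hv : v ∈ D.posUnipotent K) {s : Fin D.nroots} {c : K}
    (hc : c ≠ 0) (hU : v * Φ.toAlg.xg s c * v⁻¹ ∈ D.posUnipotent K) : Φ.toTables.Pos s := by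
  by_contra hs
  have h1 : Φ.toAlg.xg s c ∈ D.borelSubgroup K ⊓ D.negUnipotent K := by
    refine Subgroup.mem_inf.2 ⟨U_le_B ?_, Φ.xg_mem_V hs _⟩
    rw [show Φ.toAlg.xg s c = v⁻¹ * (v * Φ.toAlg.xg s c * v⁻¹) * v by group]
    exact mul_mem (mul_mem (inv_mem hv) hU) hv
  rw [Φ.B_inf_V, Subgroup.mem_bot, Φ.toAlg.xg_eq_one_iff] at h1
  exact hc h1

variable (σ : K ≃+* K) {H : Subgroup (GL D.Idx K)}

include hh in
/-- The highest root element has its rational conjugates only from rational points. -/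
theorem high_isolated (hrat : Φ.ratE σ ≤ H) (hHG : H ≤ D.group K)
    (hP : ∀ x : Fin D.rank → ℝ, (∀ i, 0 ≤ x i) → ∀ i, x i ≠ 0 → ∀ k ∈ H,
      k ∈ stabR (Φ.wtIdx x) → k ∈ ratG σ)
    {k : GL D.Idx K} (hk : k ∈ H) (hkx : k * Φ.toAlg.xg h 1 * k⁻¹ ∈ ratG σ) : k ∈ ratG σ := by
  set x : Fin D.rank → ℝ := fun j => (Φ.A j h : ℝ) with hx
  have hx0 : ∀ i, 0 ≤ x i := fun i => (by exact_mod_cast hh.dom i : (0 : ℝ) ≤ (Φ.A i h : ℝ))
  obtain ⟨i0, hi0⟩ : ∃ i, x i ≠ 0 := by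
    by_contra hall
    push Not at hall
    have h2 := Φ.pair_self h
    rw [Finset.sum_eq_zero fun i _ => by
      have h4 : (Φ.A i h : ℝ) = 0 := hall i
      rw [show Φ.A i h = 0 by exact_mod_cast h4, mul_zero]] at h2
    omega
  have hz : k⁻¹ * fr σ k ∈ stabR (Φ.wtIdx x) := by
    have h1 : fr σ (k * Φ.toAlg.xg h 1 * k⁻¹) = k * Φ.toAlg.xg h 1 * k⁻¹ := hkx.2
    rw [map_mul, map_mul, map_inv, Φ.fr_xg, map_one] at h1
    have hkG := hHG hk
    set z := k⁻¹ * fr σ k with hzdef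
    have hzc : z * Φ.toAlg.xg h 1 * z⁻¹ = Φ.toAlg.xg h 1 := by
      rw [hzdef]
      calc _ = k⁻¹ * (fr σ k * Φ.toAlg.xg h 1 * (fr σ k)⁻¹) * k := by group
        _ = _ := by rw [h1]; group
    obtain ⟨b, hb, n, hn, π, hπ, hm, u, hu, e⟩ :=
      Φ.exists_normal_form (mul_mem (inv_mem hkG) (Φ.fr_mem_group σ hkG) : z ∈ D.group K)
    change z = _ at e
    have hus := Φ.borel_le_stabR hx0 (U_le_B (Φ.Uneg_le_U hu))
    have hbs := Φ.borel_le_stabR hx0 hb
    obtain ⟨v, hv, d, hd, rfl⟩ := Φ.mem_B_iff.1 hb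
    obtain ⟨t, rfl⟩ := Φ.exists_torus_of_mem_H hd
    obtain ⟨c, hc, hxc, -⟩ := hm.1 h
    have hu' : u ∈ Φ.US K Φ.toTables.Pos := by rw [← Φ.posUnipotent_eq_US]; exact Φ.Uneg_le_U hu
    have hv' : v ∈ Φ.US K Φ.toTables.Pos := by rw [← Φ.posUnipotent_eq_US]; exact hv
    have hfix : π h = h := by
      refine Φ.root_eq_of_xg_eq (a := (Φ.toSys.chi t (π h) : K) * (c * 1))
        (mul_ne_zero (Units.ne_zero _) (mul_ne_zero hc one_ne_zero)) (b := (1 : K)) ?_
      calc Φ.toAlg.xg (π h) ((Φ.toSys.chi t (π h) : K) * (c * 1))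
          = Φ.toAlg.torus t * Φ.toAlg.xg (π h) (c * 1) * (Φ.toAlg.torus t)⁻¹ := by
            rw [Φ.toAlg.torus_xg, mul_inv_cancel_right]
        _ = Φ.toAlg.torus t * n * (u * Φ.toAlg.xg h 1 * u⁻¹) * n⁻¹ * (Φ.toAlg.torus t)⁻¹ := by
            rw [(Φ.high_commute_U hh 1 hu').symm.eq, mul_inv_cancel_right, ← hxc]; group
        _ = v⁻¹ * (z * Φ.toAlg.xg h 1 * z⁻¹) * v := by rw [e]; group
        _ = _ := by
            rw [hzc, mul_assoc, (Φ.high_commute_U hh 1 hv').eq, inv_mul_cancel_left]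
    have hact : Φ.act π x = x := by
      have hmem := Φ.mem_WK_of_map_eq hh.dom hπ hfix
      have : ∀ σ' ∈ Φ.WK {i : Fin D.rank | Φ.A i h = 0}, σ' ∈ Φ.WL ∧ Φ.act σ' x = x := by
        intro σ' hσ'
        induction hσ' using Subgroup.closure_induction with
        | mem y hy =>
          obtain ⟨i, hi, rfl⟩ := hy
          refine ⟨Φ.reflPerm_mem_WL i, funext fun j => ?_⟩
          have hxi0 : x i = 0 := by
            show (Φ.A i h : ℝ) = 0
            exact_mod_cast hi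
          show Φ.wt x (Φ.refl i (Φ.p j)) = x j
          rw [Φ.wt_refl, Φ.wt_p, hxi0, mul_zero, sub_zero]
        | one => exact ⟨one_mem _, Φ.act_one x⟩
        | mul a b _ _ ha hb =>
          exact ⟨mul_mem ha.1 hb.1, by rw [Φ.act_mul ha.1, ha.2, hb.2]⟩
        | inv a _ ha =>
          refine ⟨inv_mem ha.1, ?_⟩
          conv_lhs => rw [← ha.2, ← Φ.act_mul ha.1, mul_inv_cancel, Φ.act_one]
      exact (this π hmem).2
    rw [e]
    exact mul_mem (mul_mem hbs (Φ.mono_mem_stabR hn hπ hm hact)) hus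
  obtain ⟨m, hm, hms⟩ := Φ.exists_rat_coset σ hx0 (hHG hk) hz
  have := hP x hx0 i0 hi0 (m⁻¹ * k) (mul_mem (inv_mem (hrat hm)) hk) hms
  rw [show k = m * (m⁻¹ * k) by group]
  exact mul_mem (Φ.ratE_le_ratG σ hm) this

include hh in
/-- Odd characteristic. -/
theorem odd_case [Finite H] (p : ℕ) [Fact p.Prime] [CharP K p] (hp : p ≠ 2)
    (hfin : {x : K | σ x = x}.Finite) (hrat : Φ.ratE σ ≤ H) (hHG : H ≤ D.group K)
    (hU : ∀ u ∈ H, u ∈ D.posUnipotent K → u ∈ ratG σ)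
    (hP : ∀ x : Fin D.rank → ℝ, (∀ i, 0 ≤ x i) → ∀ i, x i ≠ 0 → ∀ k ∈ H,
      k ∈ stabR (Φ.wtIdx x) → k ∈ ratG σ) :
    H ≤ ratG σ := by
  classical
  intro k hk
  by_contra hkr
  have hx1 : Φ.toAlg.xg h (1 : K) ∈ ratG σ := Φ.xg_mem_ratG σ (map_one σ)
  have hx1H : Φ.toAlg.xg h (1 : K) ∈ H := hrat (Φ.xg_mem_ratE σ (map_one σ))
  set y := k * Φ.toAlg.xg h 1 * k⁻¹ with hy
  have hyH : y ∈ H := mul_mem (mul_mem hk hx1H) (inv_mem hk)
  have hyr : y ∉ ratG σ := fun e => hkr (Φ.high_isolated hh σ hrat hHG hP hk e)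
  have hcent : ∀ c ∈ H, Commute c (Φ.toAlg.xg h (1 : K)) → c ∈ ratG σ := by
    intro c hc hcc
    refine Φ.high_isolated hh σ hrat hHG hP hc ?_
    rw [hcc.eq, mul_inv_cancel_right]; exact hx1
  have hrw : ∀ u : GL D.Idx K, u ∈ D.posUnipotent K → u ∈ Φ.US K Φ.toTables.Pos := fun u hu => by
    rwa [← Φ.posUnipotent_eq_US]
  obtain ⟨π, hπ, v, hv, c, hc, hyv⟩ := Φ.conj_high hh (hHG hk) 1 one_ne_zero
  rw [← hy] at hyv
  set s := π h
  have hsneg : ¬ Φ.toTables.Pos s := fun hs =>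
    hyr (hU y hyH (hyv ▸ mul_mem (mul_mem hv (Φ.xg_mem_U hs _)) (inv_mem hv)))
  by_cases hsh : s = h.rev
  swap
  · -- `s` is negative and not opposite
    have hsne : s ≠ h := fun e => hsneg (e ▸ hh.pos)
    have hvx : v * Φ.toAlg.xg h 1 * v⁻¹ = Φ.toAlg.xg h (1 : K) := by
      rw [← (Φ.high_commute_U hh 1 (hrw v hv)).eq, mul_inv_cancel_right]
    set s' := s.rev with hs'
    have hs'p : Φ.toTables.Pos s' := (Φ.pos_rev_iff s).2 hsneg
    rcases hh.shape s hsne hsh with e | e | ⟨-, e, -⟩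
    · have h0 := hh.nonneg s' hs'p
      have := Φ.pr_rev h s
      rw [← hs'] at this
      omega
    swap
    · refine hyr (hcent y hyH ?_)
      show _ * _ = _ * _
      rw [hyv]
      calc v * Φ.toAlg.xg s c * v⁻¹ * Φ.toAlg.xg h 1
          = v * (Φ.toAlg.xg s c * (v⁻¹ * (v * Φ.toAlg.xg h 1 * v⁻¹) * v)) * v⁻¹ := by rw [hvx]; group
        _ = v * (Φ.toAlg.xg s c * Φ.toAlg.xg h 1) * v⁻¹ := by group
        _ = v * (Φ.toAlg.xg h 1 * Φ.toAlg.xg s c) * v⁻¹ := by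
          rw [(Φ.commute_of_nil hsne hsh e (1 : K) c).eq]
        _ = (v * Φ.toAlg.xg h 1 * v⁻¹) * (v * Φ.toAlg.xg s c * v⁻¹) := by group
        _ = _ := by rw [hvx]
    -- the two elements generate a `p`-group
    have hs'1 : ∑ k, Φ.C h k * Φ.A k s' = 1 := by
      rw [hs', Φ.pr_rev h s, e]; norm_num
    obtain ⟨j, hj⟩ : ∃ j, Φ.V h j ≠ 2 * Φ.V s' j := by
      by_contra hall
      push Not at hall
      refine hh.four s' (fun e' => ?_) (Φ.ne_rev_of_pos hh.pos hs'p) ?_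
      · rw [e', Φ.pair_self] at hs'1; omega
      · rw [← show 2 * ∑ k, Φ.C s' k * Φ.A k s' = (4 : ℤ) by rw [Φ.pair_self]; norm_num, Finset.mul_sum]
        refine Finset.sum_congr rfl fun k _ => ?_
        rw [Φ.A_lin k h, Φ.A_lin k s']
        simp only [hall, Finset.mul_sum]
        exact Finset.sum_congr rfl fun m _ => by ring
    obtain ⟨a, b, ha1, ha2⟩ : ∃ a b : ℤ, 0 < 2 * a + b * Φ.V h j ∧ a + b * Φ.V s' j < 0 := by
      rcases lt_or_gt_of_ne hj with h' | h'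
      · exact ⟨4 * Φ.V s' j - 1, -4, by omega, by omega⟩
      · exact ⟨-4 * Φ.V s' j - 1, 4, by omega, by omega⟩
    set l : Fin D.rank → ℤ := fun m =>
      a * (∑ k, Φ.C h k * Φ.A k (Φ.p m)) + b * (if m = j then 1 else 0) with hl
    have hlev : ∀ r, Φ.toSys.lev l r = a * (∑ k, Φ.C h k * Φ.A k r) + b * Φ.V r j := by
      intro r
      have e1 : ∑ k, Φ.C h k * Φ.A k r = ∑ m, Φ.V r m * ∑ k, Φ.C h k * Φ.A k (Φ.p m) := by
        simp only [Φ.A_lin _ r, Finset.mul_sum]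
        rw [Finset.sum_comm]
        exact Finset.sum_congr rfl fun m _ => Finset.sum_congr rfl fun k _ => by ring
      rw [Sys.lev, e1, Finset.mul_sum]
      simp only [hl, mul_add, Finset.sum_add_distrib]
      congr 1
      · exact Finset.sum_congr rfl fun m _ => by ring
      · simp [mul_ite, mul_comm]
    set R0 := Subgroup.closure ({Φ.toAlg.xg h (1 : K), Φ.toAlg.xg s c} : Set (GL D.Idx K))
    have hR0 : IsPGroup p ↥R0 := by
      set w : D.Idx → ℤ := fun x => 1 * Φ.toSys.levIdx l x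
      have hle : R0 ≤ raiseSubgroup w 1 zero_le_one := by
        rw [Subgroup.closure_le]
        have key : ∀ (r : Fin D.nroots) (t : K), 1 ≤ 1 * Φ.toSys.lev l r →
            Φ.toAlg.xg r t ∈ raiseSubgroup w 1 zero_le_one := fun r t hr =>
          ⟨Φ.toSys.raises_X_lev l 1 1 r zero_le_one hr t,
            Φ.toSys.raises_X_lev l 1 1 r zero_le_one hr (-t)⟩
        rintro _ (rfl | rfl)
        · refine key h 1 ?_
          rw [hlev, Φ.pair_self, one_mul]
          omega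
        · refine key s c ?_
          have h' : Φ.toSys.lev l s = -Φ.toSys.lev l s' := by
            rw [hs', Φ.toSys.lev_neg]; ring
          rw [h', hlev, hs'1, one_mul]
          omega
      intro r
      obtain ⟨r, hr⟩ := r
      haveI : Nonempty D.Idx := ⟨Sum.inr h⟩
      refine ⟨(Finset.univ.image w).card, Subtype.ext (Units.ext ?_)⟩
      have h0 := (hle hr).1.pow_eq_zero w (k := p ^ (Finset.univ.image w).card)
        (Nat.lt_pow_self (Fact.out : p.Prime).one_lt).le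
      rw [sub_pow_char_pow_of_commute _ _ (Commute.one_right _), one_pow, sub_eq_zero] at h0
      simpa using h0
    set R := R0.map (MulAut.conj v).toMonoidHom with hR
    have hRp : IsPGroup p ↥R := hR0.map _
    have hxR : Φ.toAlg.xg h (1 : K) ∈ R :=
      ⟨_, Subgroup.subset_closure (Or.inl rfl), hvx⟩
    have hyR : y ∈ R := ⟨_, Subgroup.subset_closure (Or.inr rfl), hyv.symm⟩
    have hRH : R ≤ H := by
      rw [hR, MonoidHom.map_closure, Subgroup.closure_le]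
      rintro _ ⟨z, (rfl | rfl), rfl⟩
      · show v * _ * v⁻¹ ∈ H
        rw [hvx]; exact hx1H
      · show v * _ * v⁻¹ ∈ H
        rw [← hyv]; exact hyH
    haveI : Finite ↥R := Finite.of_injective _ (Subgroup.inclusion_injective hRH)
    set T := (ratG σ).subgroupOf R with hT
    have hTne : T < ⊤ := lt_top_iff_ne_top.2 fun e' => hyr (by
      have : (⟨y, hyR⟩ : ↥R) ∈ T := e' ▸ Subgroup.mem_top _
      exact this)
    obtain ⟨u, hun, huT⟩ := SetLike.exists_of_lt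
      (Group.normalizerCondition_of_isNilpotent (h := hRp.isNilpotent) T hTne)
    refine huT ?_
    rw [hT, Subgroup.mem_subgroupOf]
    have hu2 : (u : GL D.Idx K) ∈ R := u.2
    refine Φ.normalizer_rat σ p hfin hrat hHG hP (R := R ⊓ ratG σ) inf_le_right (hRp.to_le inf_le_left) ?_
      (hRH hu2) ?_
    · intro e'
      have : Φ.toAlg.xg h (1 : K) ∈ R ⊓ ratG σ := ⟨hxR, hx1⟩
      rw [e', Subgroup.mem_bot, Φ.toAlg.xg_eq_one_iff] at this
      exact one_ne_zero this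
    · rw [Subgroup.mem_normalizer_iff]
      intro z
      constructor
      · rintro ⟨hzR, hzr⟩
        have := (Subgroup.mem_normalizer_iff.1 hun ⟨z, hzR⟩).1 (by rw [hT, Subgroup.mem_subgroupOf]; exact hzr)
        rw [hT, Subgroup.mem_subgroupOf, Subgroup.coe_mul, Subgroup.coe_mul, Subgroup.coe_inv] at this
        exact ⟨(mul_mem (mul_mem hu2 hzR) (inv_mem hu2) : _ ∈ R), this⟩
      · rintro ⟨hzR, hzr⟩
        have hzR' : z ∈ R := by
          rw [show z = (u : GL D.Idx K)⁻¹ * ((u : GL D.Idx K) * z * (u : GL D.Idx K)⁻¹) * u by group]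
          exact mul_mem (mul_mem (inv_mem hu2) hzR) hu2
        have := (Subgroup.mem_normalizer_iff.1 hun ⟨z, hzR'⟩).2 (by
          rw [hT, Subgroup.mem_subgroupOf, Subgroup.coe_mul, Subgroup.coe_mul, Subgroup.coe_inv]; exact hzr)
        rw [hT, Subgroup.mem_subgroupOf] at this
        exact ⟨hzR', this⟩
  -- the opposite case
  rw [hsh] at hyv
  let pr : Fin D.nroots → ℤ := fun r => ∑ k, Φ.C h k * Φ.A k r
  have pr_add : ∀ r r', Φ.N r r' ≠ 0 → pr (Φ.S r r') = pr r + pr r' := by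
    intro r r' hN
    simp only [pr, Φ.A_lin _ (Φ.S r r'), Φ.A_lin _ r, Φ.A_lin _ r', Φ.V_add r r' hN, add_mul,
      Finset.sum_add_distrib, mul_add]
  let S : Fin D.nroots → Prop := fun r => Φ.toTables.Pos r ∧ 0 < pr r
  have hSc : Φ.Closed S := fun r r' hr hr' hN =>
    ⟨Φ.closed_pos r r' hr.1 hr'.1 hN, by rw [pr_add r r' hN]; have := hr.2; have := hr'.2; omega⟩
  rw [Φ.posUnipotent_eq_US, ← Φ.US_rootList] at hv
  obtain ⟨P, hP', M, hM, rfl⟩ := Φ.exists_splitList (A := fun r => 0 < pr r)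
    (pairwise_rootList _) (fun r hr => mem_rootList.mp hr)
    (fun a c ha hc hN => mem_rootList.mpr
      (Φ.closed_pos a c (mem_rootList.mp ha) (mem_rootList.mp hc) hN)) hv
  have hMc : Commute M (Φ.toAlg.xg h.rev c) := by
    revert hM
    generalize M = M'
    intro hM
    clear * - hM hh
    induction hM using Subgroup.closure_induction with
    | mem z hz =>
      obtain ⟨r, t, ⟨hr, hr0⟩, rfl⟩ := hz
      have hrp := mem_rootList.1 hr
      have hrne : r ≠ h := fun e' => hr0 (by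
        show 0 < ∑ k, Φ.C h k * Φ.A k r
        rw [e', Φ.pair_self]; norm_num)
      have hrne' : r ≠ h.rev := Φ.ne_rev_of_pos hh.pos hrp
      rcases hh.shape r hrne hrne' with e | e | ⟨-, -, e⟩
      · exact absurd (show 0 < pr r by simp only [pr, e]; norm_num) hr0
      · have := hh.nonneg r hrp; omega
      · exact (Φ.commute_of_nil hrne' (by rwa [Fin.rev_rev]) e c t).symm
    | one => exact Commute.one_left _
    | mul a b _ _ ha hb => exact ha.mul_left hb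
    | inv a _ ha => exact ha.inv_left
  have hyP : y = P * Φ.toAlg.xg h.rev c * P⁻¹ := by
    rw [hyv]
    calc _ = P * (M * Φ.toAlg.xg h.rev c) * M⁻¹ * P⁻¹ := by group
      _ = _ := by rw [hMc.eq]; group
  have hPS : P ∈ Φ.US K S := Φ.US_mono (fun r hr => ⟨mem_rootList.1 hr.1, hr.2⟩) hP'
  have hPU : P ∈ Φ.US K Φ.toTables.Pos := Φ.US_mono (fun r hr => hr.1) hPS
  -- `-1` of the conjugate `SL₂` lies in `H`
  let ψ : SpecialLinearGroup (Fin 2) K →* GL D.Idx K :=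
    (MulAut.conj P).toMonoidHom.comp (Φ.rankOne K h).hom
  have hψu : ψ (CfsgLib.Dickson.up 1) = Φ.toAlg.xg h 1 := by
    show P * (Φ.rankOne K h).hom (RankOne.u 1) * P⁻¹ = _
    rw [RankOne.hom_u]
    show P * Φ.toAlg.xg h 1 * P⁻¹ = _
    rw [← (Φ.high_commute_U hh 1 hPU).eq, mul_inv_cancel_right]
  have hψl : ψ (CfsgLib.Dickson.lo c) = y := by
    show P * (Φ.rankOne K h).hom (RankOne.l c) * P⁻¹ = _
    rw [RankOne.hom_l, hyP]
    rfl
  haveI : Finite ↥(H.comap ψ) :=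
    finite_comap_conj hp p P (Φ.rankOne K h) H (fun t e => Φ.toAlg.xg_eq_one_iff.1 e)
      (fun t e => Φ.toAlg.xg_eq_one_iff.1 e)
  obtain ⟨H2, hH2, ⟨e2⟩⟩ := CfsgLib.Dickson.dickson p hp (H.comap ψ)
    ⟨CfsgLib.Dickson.up 1, by rw [Subgroup.mem_comap, hψu]; exact hx1H,
      CfsgLib.Dickson.lo c, by rw [Subgroup.mem_comap, hψl]; exact hyH,
      by simp [Matrix.trace_fin_two, one_add_one_eq_two],
      by simp [Matrix.trace_fin_two, one_add_one_eq_two],
      fun e => hc (by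
        have := congrArg (fun A : SpecialLinearGroup (Fin 2) K => A.1 0 0) e
        simpa [Matrix.mul_apply, Fin.sum_univ_two] using this)⟩
  have hneg : (-1 : SpecialLinearGroup (Fin 2) K) ∈ H.comap ψ := by
    haveI : Fact (2 < p) := ⟨lt_of_le_of_ne (Fact.out : p.Prime).two_le (Ne.symm hp)⟩
    set w := e2.symm (-1)
    have hw2 : (w : SpecialLinearGroup (Fin 2) K) * w = 1 := by
      rw [← Subgroup.coe_mul, ← map_mul, neg_mul_neg, one_mul, map_one, Subgroup.coe_one]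
    have hw1 : (w : SpecialLinearGroup (Fin 2) K) ≠ 1 := by
      intro e
      have h1 : (-1 : SpecialLinearGroup (Fin 2) (ZMod p)) = 1 := by
        rw [← e2.apply_symm_apply (-1), show e2.symm (-1) = 1 from Subtype.ext e, map_one]
      have := congrArg (fun A : SpecialLinearGroup (Fin 2) (ZMod p) => A.1 0 0) h1
      simp at this
      exact ZMod.neg_one_ne_one this
    have h2 : (2 : K) ≠ 0 := Ring.two_ne_zero (by rwa [ringChar.eq K p])
    have hwv : (w : SpecialLinearGroup (Fin 2) K) = -1 := by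
      set A := (w : SpecialLinearGroup (Fin 2) K)
      obtain ⟨i00, i01, i10, i11⟩ := CfsgLib.Dickson.inv_entries A
      have hinv : A⁻¹ = A := inv_eq_of_mul_eq_one_right hw2
      rw [hinv] at i00 i01 i10 i11
      have e01 : A.1 0 1 = 0 := by
        have : (2 : K) * A.1 0 1 = 0 := by linear_combination i01
        exact (mul_eq_zero.1 this).resolve_left h2
      have e10 : A.1 1 0 = 0 := by
        have : (2 : K) * A.1 1 0 = 0 := by linear_combination i10
        exact (mul_eq_zero.1 this).resolve_left h2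
      have hd := CfsgLib.Dickson.det_eq A
      rw [e01, zero_mul, sub_zero, ← i00] at hd
      have : (A.1 0 0 - 1) * (A.1 0 0 + 1) = 0 := by linear_combination hd
      rcases mul_eq_zero.1 this with e | e
      · refine absurd (CfsgLib.Dickson.ext_entries ?_ ?_ ?_ ?_) hw1 <;> simp [e01, e10, ← i00, sub_eq_zero.1 e]
      · refine CfsgLib.Dickson.ext_entries ?_ ?_ ?_ ?_ <;> simp [e01, e10, ← i00, eq_neg_of_add_eq_zero_left e]
    rw [← hwv]
    exact hH2 w.2
  set z := Φ.hw h (-1 : Kˣ)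
  have hnwr : Φ.nw h (-1 : Kˣ) ∈ ratG σ := Φ.ratE_le_ratG σ (Φ.nw_mem_ratE σ h (by simp))
  have hzr : z ∈ ratG σ := mul_mem hnwr hnwr
  have hψz : ψ (-1) = P * z * P⁻¹ := by
    show P * (Φ.rankOne K h).f (-1) * P⁻¹ = _
    rw [RankOne.f_of_zero _ (by simp) (-1) (by simp)]
    congr 2
    show Φ.hw h (-1) * Φ.toAlg.xg h _ = z
    simp [z]
  have hz' : P * z * P⁻¹ ∈ H := hψz ▸ Subgroup.mem_comap.1 hneg
  have hzh : Commute z (Φ.toAlg.xg h (1 : K)) := by
    show _ = _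
    rw [Φ.hw_xg]
    simp [z]
  have hz'r : P * z * P⁻¹ ∈ ratG σ := hcent _ hz' (by
    have := ((Commute.refl P).symm)
    show _ = _
    calc P * z * P⁻¹ * Φ.toAlg.xg h 1 = P * z * (P⁻¹ * Φ.toAlg.xg h 1) := by group
      _ = P * (z * Φ.toAlg.xg h 1) * P⁻¹ := by
        rw [← (Φ.high_commute_U hh 1 (inv_mem hPU)).eq]; group
      _ = (P * Φ.toAlg.xg h 1) * z * P⁻¹ := by rw [hzh.eq]; group
      _ = _ := by rw [← (Φ.high_commute_U hh 1 hPU).eq]; group)
  -- the coordinates of `P`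
  set LS := rootList S
  have hLS : ∀ r ∈ LS, Φ.toTables.Pos r := fun r hr => (mem_rootList.1 hr).1
  have hpw : LS.Pairwise (· < ·) := pairwise_rootList S
  obtain ⟨t, ht⟩ := (Φ.mem_US_iff (fun r hr => hr.1) hSc).1 hPS
  have hfrP : fr σ P ∈ Φ.US K S := Φ.map_mem_US _ hPS
  obtain ⟨d, hd⟩ := (Φ.mem_US_iff (fun r hr => hr.1) hSc).1 (mul_mem (inv_mem hPS) hfrP)
  have hdc : z * Φ.prodL LS d * z⁻¹ = Φ.prodL LS d := by
    have h1 : fr σ (P * z * P⁻¹) = P * z * P⁻¹ := hz'r.2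
    rw [map_mul, map_mul, map_inv, show fr σ z = z from hzr.2] at h1
    rw [← hd]
    calc z * (P⁻¹ * fr σ P) * z⁻¹ = P⁻¹ * (P * z * P⁻¹) * fr σ P * z⁻¹ := by group
      _ = _ := by rw [← h1]; group
  have hd0 : ∀ r ∈ LS, r ≠ h → d r = 0 := by
    have hconj : z * Φ.prodL LS d * z⁻¹ =
        Φ.prodL LS fun r => ((-1 : Kˣ) ^ pr r : Kˣ) * d r := by
      rw [← MulAut.conj_apply, prodL, prodL, map_list_prod, List.map_map]
      congr 1
      refine List.map_congr_left fun r _ => ?_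
      show z * Φ.toAlg.xg r (d r) * z⁻¹ = _
      rw [show z = Φ.toAlg.torus (Φ.coChar h (-1)) from Φ.hw_eq h _, Φ.toAlg.torus_xg,
        mul_inv_cancel_right, Φ.chi_coChar]
    intro r hr hrh
    rw [hdc] at hconj
    have h1 := Φ.prodL_injective hpw hLS hconj r hr
    obtain ⟨hrp, hr0⟩ := mem_rootList.1 hr
    have h2 : pr r = 1 := by
      rcases hh.shape r hrh (Φ.ne_rev_of_pos hh.pos hrp) with e | e | ⟨e, -⟩
      · exact e
      · simp only [pr] at hr0; omega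
      · simp only [pr] at hr0; omega
    rw [h2, zpow_one, Units.val_neg, Units.val_one, neg_one_mul, ← add_eq_zero_iff_eq_neg, ← two_mul] at h1
    exact (mul_eq_zero.1 h1).resolve_left (Ring.two_ne_zero (by rwa [ringChar.eq K p]))
  have hcen : ∀ e : Fin D.nroots → K, (∀ r ∈ LS, r ≠ h → e r = 0) → ∀ r ∈ LS, e r = 0 ∨
      ∀ x ∈ Φ.US K Φ.toTables.Pos, Commute (Φ.toAlg.xg r (e r)) x := by
    intro e he r hr
    by_cases hrh : r = h
    · exact Or.inr fun x hx => hrh ▸ Φ.high_commute_U hh _ hx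
    · exact Or.inl (he r hr hrh)
  have hsig : Φ.prodL LS (fun r => σ (t r)) = Φ.prodL LS fun r => t r + d r := by
    have h := Φ.prodL_add (t := t) hLS (hcen d hd0)
    rw [← hd, ← ht, mul_inv_cancel_left] at h
    rw [← h, ht, fr, Φ.map_prodL]
    rfl
  set t0 : Fin D.nroots → K := fun r => if r = h then 0 else t r
  set t1 : Fin D.nroots → K := fun r => if r = h then t r else 0
  have hP01 : P = Φ.prodL LS t0 * Φ.prodL LS t1 := by
    rw [Φ.prodL_add (t := t0) hLS (hcen t1 fun r _ hr => if_neg hr), ht]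
    congr 1
    funext r
    simp only [t0, t1]
    split_ifs <;> simp
  set P0 := Φ.prodL LS t0
  set P1 := Φ.prodL LS t1
  have h0E : P0 ∈ Φ.ratE σ := by
    refine Subgroup.list_prod_mem _ fun q hq => ?_
    obtain ⟨r, hr, rfl⟩ := List.mem_map.1 hq
    refine Φ.xg_mem_ratE σ ?_
    simp only [t0]
    split_ifs with hrh
    · exact map_zero σ
    · have := Φ.prodL_injective hpw hLS hsig r hr
      rwa [hd0 r hr hrh, add_zero] at this
  have h0 := Φ.ratE_le_ratG σ h0E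
  obtain ⟨hgh, hgr, hg0⟩ := hh.g_ne
  obtain ⟨-, hgc, hgc'⟩ : _ ∧ D.commTerms h.val g.val = [] ∧ D.commTerms h.rev.val g.val = [] := by
    rcases hh.shape g hgh hgr with e | e | e
    · omega
    · omega
    · exact e
  have hP1g : Commute P1 (Φ.toAlg.xg g (1 : K)) := by
    refine Commute.list_prod_left _ _ fun q hq => ?_
    obtain ⟨r, -, rfl⟩ := List.mem_map.1 hq
    simp only [t1]
    split_ifs with hrh
    · subst hrh; exact Φ.commute_of_nil hgh hgr hgc _ _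
    · rw [Φ.toAlg.xg_zero]; exact Commute.one_left _
  have hy' : P0⁻¹ * y * P0 = P1 * Φ.toAlg.xg h.rev c * P1⁻¹ := by rw [hyP, hP01]; group
  have hy'c : Commute (P1 * Φ.toAlg.xg h.rev c * P1⁻¹) (Φ.toAlg.xg g (1 : K)) :=
    (hP1g.mul_left (Φ.commute_of_nil hgr (by rwa [Fin.rev_rev]) hgc' c 1)).mul_left hP1g.inv_left
  have hy'H : P1 * Φ.toAlg.xg h.rev c * P1⁻¹ ∈ H := hy' ▸ mul_mem (mul_mem (inv_mem (hrat h0E)) hyH) (hrat h0E)
  have hxg : Φ.toAlg.xg g (1 : K) ∈ ratG σ := Φ.xg_mem_ratG σ (map_one σ)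
  have hy'r : P1 * Φ.toAlg.xg h.rev c * P1⁻¹ ∈ ratG σ := by
    refine Φ.normalizer_rat σ p hfin hrat hHG hP (R := Subgroup.zpowers (Φ.toAlg.xg g (1 : K)))
      (Subgroup.zpowers_le.2 hxg) ?_ ?_ hy'H ?_
    · intro r
      refine ⟨1, ?_⟩
      obtain ⟨r, n, rfl⟩ := r
      refine Subtype.ext ?_
      have hpw' : Φ.toAlg.xg g (1 : K) ^ (p : ℕ) = 1 := by
        have hn : ∀ m : ℕ, Φ.toAlg.xg g (1 : K) ^ m = Φ.toAlg.xg g (m : K) := fun m => by
          induction m with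
          | zero => simp
          | succ m ih => rw [pow_succ, ih, Nat.cast_succ, Φ.toAlg.xg_add]
        rw [hn, CharP.cast_eq_zero, Φ.toAlg.xg_zero]
      show (Φ.toAlg.xg g (1 : K) ^ n) ^ (p ^ 1) = 1
      rw [pow_one, ← zpow_natCast, ← _root_.zpow_mul, mul_comm, _root_.zpow_mul, zpow_natCast, hpw',
        _root_.one_zpow]
    · rw [Subgroup.zpowers_ne_bot, Ne, Φ.toAlg.xg_eq_one_iff]
      exact one_ne_zero
    · rw [Subgroup.mem_normalizer_iff]
      intro q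
      constructor
      · rintro ⟨n, rfl⟩
        refine ⟨n, ?_⟩
        show Φ.toAlg.xg g (1 : K) ^ n = _
        rw [(hy'c.zpow_right n).eq, mul_inv_cancel_right]
      · rintro ⟨n, hn⟩
        refine ⟨n, ?_⟩
        change Φ.toAlg.xg g (1 : K) ^ n = _ at hn
        have h1 : q = (P1 * Φ.toAlg.xg h.rev c * P1⁻¹)⁻¹ * (Φ.toAlg.xg g (1 : K) ^ n) *
            (P1 * Φ.toAlg.xg h.rev c * P1⁻¹) := by rw [hn]; group
        show Φ.toAlg.xg g (1 : K) ^ n = q
        rw [h1, mul_assoc, ← (hy'c.zpow_right n).eq, inv_mul_cancel_left]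
  refine hyr ?_
  rw [show y = P0 * (P0⁻¹ * y * P0) * P0⁻¹ by group, hy']
  exact mul_mem (mul_mem h0 hy'r) (inv_mem h0)

theorem orbit_list {L : List ℕ}
    (hL : (L.all fun s => (List.range D.rank).all fun i => L.contains (D.reflectRoot i s)) = true)
    {π : Equiv.Perm (Fin D.nroots)} (hπ : π ∈ Φ.WL) {r : Fin D.nroots} (hr : r.val ∈ L) :
    (π r).val ∈ L := by
  simp only [List.all_eq_true, List.mem_range, List.contains_iff_mem] at hL
  have hgen : ∀ (i : Fin D.rank) (r : Fin D.nroots), r.val ∈ L → (Φ.refl i r).val ∈ L := by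
    intro i r hr
    have := hL r.val hr i.val i.isLt
    rwa [Φ.reflectRoot_eq] at this
  induction hπ using Subgroup.closure_induction'' generalizing r with
  | mem x hx => obtain ⟨i, -, rfl⟩ := hx; exact hgen i r hr
  | inv_mem x hx => obtain ⟨i, -, rfl⟩ := hx; rw [Φ.reflPerm_inv']; exact hgen i r hr
  | one => exact hr
  | mul x y _ _ hx hy => exact hx (hy hr)

theorem conj_mem_posNe {i : Fin D.rank} {v : GL D.Idx K} (hv : v ∈ D.posUnipotent K)
    {z : GL D.Idx K} (hz : z ∈ Φ.US K (Φ.PosNe i)) : v * z * v⁻¹ ∈ Φ.US K (Φ.PosNe i) := by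
  obtain ⟨w, hw, a, rfl⟩ := Φ.exists_split i hv
  rw [show w * Φ.toAlg.xg (Φ.p i) a * z * (w * Φ.toAlg.xg (Φ.p i) a)⁻¹ =
    w * (Φ.toAlg.xg (Φ.p i) a * z * (Φ.toAlg.xg (Φ.p i) a)⁻¹) * w⁻¹ by group]
  refine mul_mem (mul_mem hw ?_) (inv_mem hw)
  have h1 := Φ.xg_p_conj_posNe i (-a) hz
  rwa [Φ.toAlg.xg_neg, inv_inv] at h1

include hh in
/-- A second class of involutions. -/
theorem exists_other_class [CharP K 2] {a c : ℕ} {L : List ℕ}
    (hok : invCert D h.val a c L = true) :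
    ∃ x' ∈ Φ.ratE σ, x' * x' = 1 ∧ x' ≠ 1 ∧ x' ∈ D.posUnipotent K ∧
      ∀ k ∈ D.group K, k * Φ.toAlg.xg h (1 : K) * k⁻¹ ≠ x' := by
  simp only [invCert, Bool.and_eq_true, decide_eq_true_eq, Bool.or_eq_true, List.isEmpty_iff,
    Bool.not_eq_true', List.contains_iff_mem] at hok
  obtain ⟨⟨ha, hc⟩, hcase⟩ := hok
  set A : Fin D.rank := ⟨a, ha⟩
  set C : Fin D.rank := ⟨c, hc⟩
  have hne : ∀ {i : Fin D.rank} {s : Fin D.nroots}, Φ.toTables.Pos s → s ≠ Φ.p i →
      ∀ {v : GL D.Idx K}, v ∈ D.posUnipotent K → ∀ t : K,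
      v * Φ.toAlg.xg s t * v⁻¹ ∈ Φ.US K (Φ.PosNe i) := fun hs hsi _ hv t =>
    Φ.conj_mem_posNe hv (Φ.xg_mem_US ⟨hs, hsi⟩ t)
  have hAU : Φ.toAlg.xg (Φ.p A) (1 : K) ∈ D.posUnipotent K := Φ.xg_mem_U (Φ.p_pos A) _
  rcases hcase with ⟨hac, hnil⟩ | ⟨⟨⟨rfl, hhL⟩, haL⟩, hL⟩
  · rw [Φ.simple_val A, Φ.simple_val C] at hnil
    have hAC : A ≠ C := fun e => hac (congrArg Fin.val e)
    have hpne : Φ.p C ≠ Φ.p A := fun e => by
      have := Φ.V_p C A
      rw [e, Φ.V_p, if_pos rfl, if_neg (Ne.symm hAC)] at this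
      exact one_ne_zero this
    have hcomm : Commute (Φ.toAlg.xg (Φ.p A) (1 : K)) (Φ.toAlg.xg (Φ.p C) 1) :=
      Φ.commute_of_nil hpne (Φ.ne_rev_of_pos (Φ.p_pos A) (Φ.p_pos C)) hnil 1 1
    set x' := Φ.toAlg.xg (Φ.p A) (1 : K) * Φ.toAlg.xg (Φ.p C) 1 with hx'
    have hxC : Φ.toAlg.xg (Φ.p C) (1 : K) ∈ Φ.US K (Φ.PosNe A) := Φ.xg_mem_US ⟨Φ.p_pos C, hpne⟩ _
    have hnot : x' ∉ Φ.US K (Φ.PosNe A) := fun e => one_ne_zero
      (Φ.xg_p_mem_posNe ((Subgroup.mul_mem_cancel_right _ hxC).1 e))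
    refine ⟨x', mul_mem (Φ.xg_mem_ratE σ (map_one σ)) (Φ.xg_mem_ratE σ (map_one σ)), ?_, ?_,
      mul_mem hAU (Φ.xg_mem_U (Φ.p_pos C) _), fun k hk e => ?_⟩
    · rw [hx', hcomm.symm.mul_mul_mul_comm, ← Φ.toAlg.xg_add, ← Φ.toAlg.xg_add,
        CharTwo.add_self_eq_zero, Φ.toAlg.xg_zero, Φ.toAlg.xg_zero, one_mul]
    · exact fun e => hnot (e ▸ one_mem _)
    obtain ⟨π, -, v, hv, t, ht, ev⟩ := Φ.conj_high hh hk 1 one_ne_zero
    rw [e] at ev
    have hs : Φ.toTables.Pos (π h) := Φ.conj_high_neg hh hv ht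
      (ev ▸ mul_mem hAU (Φ.xg_mem_U (Φ.p_pos C) _))
    by_cases hsA : π h = Φ.p A
    · have h1 : x' ∈ Φ.US K (Φ.PosNe C) := by
        rw [ev]; exact hne hs (by rw [hsA]; exact hpne.symm) hv t
      have h2 : Φ.toAlg.xg (Φ.p A) (1 : K) ∈ Φ.US K (Φ.PosNe C) :=
        Φ.xg_mem_US ⟨Φ.p_pos A, hpne.symm⟩ _
      exact one_ne_zero (Φ.xg_p_mem_posNe ((Subgroup.mul_mem_cancel_left _ h2).1 h1))
    · exact hnot (by rw [ev]; exact hne hs hsA hv t)
  · refine ⟨Φ.toAlg.xg (Φ.p A) 1, Φ.xg_mem_ratE σ (map_one σ), ?_, ?_, hAU, fun k hk e => ?_⟩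
    · rw [← Φ.toAlg.xg_add, CharTwo.add_self_eq_zero, Φ.toAlg.xg_zero]
    · rw [Ne, Φ.toAlg.xg_eq_one_iff]; exact one_ne_zero
    obtain ⟨π, hπ, v, hv, t, ht, ev⟩ := Φ.conj_high hh hk 1 one_ne_zero
    rw [e] at ev
    have hs : Φ.toTables.Pos (π h) := Φ.conj_high_neg hh hv ht (ev ▸ hAU)
    have hsA : π h ≠ Φ.p A := by
      intro e'
      have := Φ.orbit_list hL hπ hhL
      rw [e', ← Φ.simple_val A] at this
      exact absurd this (by simpa using haL)
    exact one_ne_zero (Φ.xg_p_mem_posNe (ev ▸ hne hs hsA hv t))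

include hh in
/-- Characteristic two. -/
theorem two_case [Finite H] [CharP K 2] (hfin : {x : K | σ x = x}.Finite) (hrat : Φ.ratE σ ≤ H) (hHG : H ≤ D.group K)
    (hP : ∀ x : Fin D.rank → ℝ, (∀ i, 0 ≤ x i) → ∀ i, x i ≠ 0 → ∀ k ∈ H,
      k ∈ stabR (Φ.wtIdx x) → k ∈ ratG σ)
    {a c : ℕ} {L : List ℕ} (hok : invCert D h.val a c L = true) : H ≤ ratG σ := by
  haveI : Fact (Nat.Prime 2) := ⟨Nat.prime_two⟩
  intro k hk
  by_contra hkr
  obtain ⟨x', hxr, hx2, hx1, -, hxcl⟩ := Φ.exists_other_class hh σ (K := K) hok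
  set y := k * Φ.toAlg.xg h 1 * k⁻¹ with hy
  have hyH : y ∈ H :=
    mul_mem (mul_mem hk (hrat (Φ.xg_mem_ratE σ (map_one σ)))) (inv_mem hk)
  have hyr : y ∉ ratG σ := fun e => hkr (Φ.high_isolated hh σ hrat hHG hP hk e)
  have hy2 : y * y = 1 := by
    rw [hy, show k * Φ.toAlg.xg h 1 * k⁻¹ * (k * Φ.toAlg.xg h 1 * k⁻¹) =
      k * (Φ.toAlg.xg h 1 * Φ.toAlg.xg h 1) * k⁻¹ by group, ← Φ.toAlg.xg_add,
      CharTwo.add_self_eq_zero, Φ.toAlg.xg_zero, mul_one, mul_inv_cancel]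
  have hcent : ∀ {c b : GL D.Idx K}, c ∈ ratG σ → c * c = 1 → c ≠ 1 → b ∈ H → Commute b c →
      b ∈ ratG σ := by
    intro c b hc hc2 hc1 hb hbc
    refine Φ.normalizer_rat σ 2 hfin hrat hHG hP (R := Subgroup.zpowers c) (Subgroup.zpowers_le.2 hc) ?_
      (by rw [Subgroup.zpowers_ne_bot]; exact hc1) hb ?_
    · refine IsPGroup.of_card (n := 1) ?_
      rw [Nat.card_zpowers, pow_one, orderOf_eq_prime (by rw [pow_two, hc2]) hc1]
    · rw [Subgroup.mem_normalizer_iff]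
      intro q
      constructor
      · rintro ⟨n, rfl⟩
        refine ⟨n, ?_⟩
        show c ^ n = _
        rw [(hbc.zpow_right n).eq, mul_inv_cancel_right]
      · rintro ⟨n, hn⟩
        refine ⟨n, ?_⟩
        change c ^ n = _ at hn
        show c ^ n = q
        rw [show q = b⁻¹ * c ^ n * b by rw [hn]; group, mul_assoc, ← (hbc.zpow_right n).eq,
          inv_mul_cancel_left]
  set w := x' * y with hw
  have hwH : w ∈ H := mul_mem (hrat hxr) hyH
  have hxi : x'⁻¹ = x' := inv_eq_of_mul_eq_one_right hx2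
  have hyi : y⁻¹ = y := inv_eq_of_mul_eq_one_right hy2
  have hwi : w⁻¹ = y * x' := by rw [hw, _root_.mul_inv_rev, hxi, hyi]
  have hconj : ∀ s : GL D.Idx K, s⁻¹ = s → s * w * s⁻¹ = w⁻¹ → ∀ n : ℕ, s * w ^ n * s = (w ^ n)⁻¹ := by
    intro s hs e n
    calc s * w ^ n * s = s * w ^ n * s⁻¹ := by rw [hs]
      _ = (s * w * s⁻¹) ^ n := conj_pow.symm
      _ = _ := by rw [e, inv_pow]
  have hxw : ∀ n : ℕ, x' * w ^ n * x' = (w ^ n)⁻¹ := hconj x' hxi (by
    rw [hxi, hwi]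
    show x' * (x' * y) * x' = y * x'
    rw [← mul_assoc, hx2, one_mul])
  have hyw : ∀ n : ℕ, y * w ^ n * y = (w ^ n)⁻¹ := hconj y hyi (by
    rw [hyi, hwi]
    calc y * (x' * y) * y = y * x' * (y * y) := by simp only [mul_assoc]
      _ = y * x' := by rw [hy2, mul_one])
  have hfo : 0 < orderOf w := by
    rw [← Subgroup.orderOf_mk _ hwH]; exact orderOf_pos _
  rcases Nat.even_or_odd' (orderOf w) with ⟨m, hm | hm⟩
  · set c := w ^ m
    have hc1 : c ≠ 1 := fun e => by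
      have := Nat.le_of_dvd (by omega) (orderOf_dvd_of_pow_eq_one e)
      omega
    have hc2 : c * c = 1 := by rw [← pow_add, ← two_mul, ← hm, pow_orderOf_eq_one]
    have hci : c⁻¹ = c := inv_eq_of_mul_eq_one_right hc2
    have hcH : c ∈ H := pow_mem hwH m
    have hcx : Commute c x' := by
      have e := hxw m
      rw [hci] at e
      show _ = _
      calc c * x' = x' * c * x' * x' := by rw [e]
        _ = x' * c := by rw [mul_assoc _ x' x', hx2, mul_one]
    have hcr : c ∈ ratG σ := hcent (Φ.ratE_le_ratG σ hxr) hx2 hx1 hcH hcx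
    refine hyr (hcent hcr hc2 hc1 hyH ?_)
    have e := hyw m
    rw [hci] at e
    show _ = _
    calc y * c = y * c * y * y := by rw [mul_assoc _ y y, hy2, mul_one]
      _ = c * y := by rw [e]
  · refine hxcl (w ^ (m + 1) * k)
      (hHG (mul_mem (pow_mem hwH _) hk)) ?_
    rw [show w ^ (m + 1) * k * Φ.toAlg.xg h 1 * (w ^ (m + 1) * k)⁻¹ = w ^ (m + 1) * y * (w ^ (m + 1))⁻¹ by
      rw [hy]; group]
    have e := hyw (m + 1)
    have e2 : y * (w ^ (m + 1))⁻¹ = w ^ (m + 1) * y := by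
      rw [← e]
      calc y * (y * w ^ (m + 1) * y) = (y * y) * w ^ (m + 1) * y := by group
        _ = _ := by rw [hy2, one_mul]
    rw [mul_assoc, e2, ← mul_assoc, ← pow_add, show m + 1 + (m + 1) = 2 * m + 1 + 1 by ring, pow_succ,
      ← hm, pow_orderOf_eq_one, one_mul, hw, mul_assoc, hy2, mul_one]

end Chev

section

variable {K : Type*} [Field K] (p : ℕ) [Fact p.Prime] [CharP K p] {σ : K ≃+* K}

include p in
/-- The data for each of the seven types. -/
theorem exists_subfieldData {D : ChevalleyDatum}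
    (hD : D ∈ [Cfsg.Lie.chevG2, Cfsg.Lie.chevB2, Cfsg.Lie.chevD4, Cfsg.Lie.chevF4, Cfsg.Lie.chevE6,
      Cfsg.Lie.chevE7, Cfsg.Lie.chevE8]) :
    ∃ Φ : Chev D, SubfieldData Φ K σ := by
  simp only [List.mem_cons, List.not_mem_nil, or_false] at hD
  rcases hD with rfl | rfl | rfl | rfl | rfl | rfl | rfl
  exacts [⟨_, subfieldData_G2 p⟩, ⟨_, subfieldData_B2 p⟩, ⟨_, subfieldData_D4 p⟩,
    ⟨_, subfieldData_F4 p⟩, ⟨_, subfieldData_E6 p⟩, ⟨_, subfieldData_E7 p⟩,
    ⟨_, subfieldData_E8 p⟩]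

include p in
/-- A finite overgroup of the rational root elements without irrational root element consists of
rational points. -/
theorem le_rat_of_no_root {D : ChevalleyDatum} {Φ : Chev D} (hdata : SubfieldData Φ K σ)
    (hfin : {x : K | σ x = x}.Finite) {H : Subgroup (GL D.Idx K)} [Finite H]
    (hrat : Φ.ratE σ ≤ H) (hHG : H ≤ D.group K)
    (hroot : ∀ (r : Fin D.nroots) (t : K), Φ.toAlg.xg r t ∈ H → σ t = t) :
    H ≤ Chev.ratG σ := by
  have hU := hdata.unip H inferInstance hrat hroot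
  have hP : ∀ x : Fin D.rank → ℝ, (∀ i, 0 ≤ x i) → ∀ i, x i ≠ 0 → ∀ k ∈ H,
      k ∈ stabR (Φ.wtIdx x) → k ∈ Chev.ratG σ := fun x hx i hi k hk hks =>
    Φ.parabolic_rat σ hdata.span hdata.cen hrat hHG hU hx hi hk hks
  obtain ⟨h, g, hhg, a, c, L, hinv⟩ := hdata.high
  obtain ⟨hh, hg, hhigh⟩ := Φ.high_of_cert hhg
  by_cases hp : p = 2
  · subst hp
    exact Φ.two_case hhigh σ hfin hrat hHG hP (a := a) (c := c) (L := L) hinv
  · exact Φ.odd_case hhigh σ p hp hfin hrat hHG hU hP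

include p in
/-- The rational points are maximal in the group. -/
theorem rat_or_group [Finite K] {D : ChevalleyDatum} {Φ : Chev D} (hdata : SubfieldData Φ K σ)
    (hmax : ∀ L : Subring K, (∀ x, σ x = x → x ∈ L) → (∃ x ∈ L, σ x ≠ x) → L = ⊤)
    {H : Subgroup (GL D.Idx K)} (hrat : Chev.ratG σ ≤ H) (hHG : H ≤ D.group K) :
    H ≤ Chev.ratG σ ∨ D.group K ≤ H := by
  by_cases hroot : ∀ (r : Fin D.nroots) (t : K), Φ.toAlg.xg r t ∈ H → σ t = t
  · exact Or.inl (le_rat_of_no_root p hdata (Set.toFinite _) ((Φ.ratE_le_ratG σ).trans hrat) hHG hroot)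
  push Not at hroot
  obtain ⟨r, t, ht, hσ⟩ := hroot
  obtain ⟨L, ⟨hL1, hL2, -⟩, hL⟩ := hdata.root H inferInstance ((Φ.ratE_le_ratG σ).trans hrat) r t ht hσ
  refine Or.inr (Φ.group_le_of_par fun r => ?_)
  rw [eq_top_iff]
  intro x _
  exact hL r x (by rw [hmax L hL1 hL2]; trivial)

end

end CfsgLib.Chev
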